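import Groth.Agent.S2219
import Groth.Agent.S8163
import Mathlib.RingTheory.DedekindDomain.Different
import Mathlib.RingTheory.Trace.Quotient
import Mathlib.RingTheory.RamificationInertia.Ramification

/-!
# The exponent of the different at a prime of a Dedekind domain
-/

set_option autoImplicit false
set_option linter.style.haveILetI false

universe u

open nonZeroDivisors UniqueFactorizationMonoid

noncomputable section

namespace Groth.Agent.H29Disc

attribute [local instance] FractionRing.liftAlgebra FractionRing.isScalarTower_liftAlgebra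
attribute [local instance] Ideal.Quotient.field

theorem pow_dvd_iff_le_count {B : Type u} [CommRing B] [IsDedekindDomain B] [DecidableEq (Ideal B)] (P : Ideal B)
    [P.IsPrime] (hP : P ≠ ⊥) {I : Ideal B} (hI : I ≠ ⊥) (n : ℕ) :
    P ^ n ∣ I ↔ n ≤ (normalizedFactors I).count P := by
  have hirr := ((Ideal.prime_iff_isPrime hP).2 inferInstance).irreducible
  rw [dvd_iff_normalizedFactors_le_normalizedFactors (pow_ne_zero _ hP) hI, normalizedFactors_pow,
    normalizedFactors_irreducible hirr, normalize_eq, Multiset.nsmul_singleton, Multiset.le_count_iff_replicate_le]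

theorem cast_ne_zero_iff (k : Type u) [Field k] (n : ℕ) (hn : n ≠ 0) :
    (∀ q : ℕ, q.Prime → CharP k q → ¬ q ∣ n) ↔ (n : k) ≠ 0 := by
  refine ⟨fun h h0 => ?_, fun h q _ hc hd => h ((CharP.cast_eq_zero_iff k q n).2 hd)⟩
  rcases CharP.char_is_prime_or_zero k (ringChar k) with hq | hq
  · exact h _ hq inferInstance ((ringChar.spec k n).1 h0)
  · exact hn (Nat.eq_zero_of_zero_dvd (hq ▸ (ringChar.spec k n).1 h0))

theorem length_pow_quot {B : Type u} [CommRing B] [IsDedekindDomain B] (P : Ideal B) [P.IsMaximal]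
    (hP : P ≠ ⊥) {n : ℕ} (hn : n ≠ 0) : Module.length B (B ⧸ P ^ n) = n := by
  let L := Localization.AtPrime P
  haveI : IsDiscreteValuationRing L := IsLocalization.AtPrime.isDiscreteValuationRing_of_dedekind_domain B hP L
  let m := IsLocalRing.maximalIdeal L
  let e := IsLocalization.AtPrime.equivQuotMaximalIdealPow P L n
  have hs : Function.Surjective (algebraMap B (L ⧸ m ^ n)) := fun z => by
    obtain ⟨x, hx⟩ := Ideal.Quotient.mk_surjective (e.symm z)
    exact ⟨x, (e.commutes x).symm.trans ((congrArg e hx).trans (e.apply_symm_apply z))⟩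
  rw [e.toLinearEquiv.length_eq, Module.length_eq_of_surjective (R := L ⧸ m ^ n) hs,
    ← Module.length_eq_of_surjective (S := L) (R := L ⧸ m ^ n) Ideal.Quotient.mk_surjective,
    S8163.result L 1 (IsPrincipalIdealRing.ringKrullDim_eq_one L (IsDiscreteValuationRing.not_isField L))
      n (Nat.one_le_iff_ne_zero.2 hn)]
  simp

variable (A B : Type u) [CommRing A] [IsDedekindDomain A] [CommRing B] [IsDedekindDomain B] [Algebra A B]
  [Module.Finite A B] [Module.IsTorsionFree A B] [Algebra.IsSeparable (FractionRing A) (FractionRing B)]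

/-- The exponent of the different is at least `e - 1`, with equality exactly in the tame case. -/
theorem different_exponent (p : Ideal A) [p.IsMaximal] (hp : p ≠ ⊥) (P : Ideal B) [P.IsMaximal]
    [P.LiesOver p] :
    P.ramificationIdx A - 1 ≤ (normalizedFactors (differentIdeal A B)).count P ∧
      ((normalizedFactors (differentIdeal A B)).count P = P.ramificationIdx A - 1 ↔
        Algebra.IsSeparable (A ⧸ p) (B ⧸ P) ∧ ((P.ramificationIdx A : ℕ) : A ⧸ p) ≠ 0) := by
  classical
  have hp' : p.map (algebraMap A B) ≠ ⊥ :=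
    (Ideal.map_eq_bot_iff_of_injective (FaithfulSMul.algebraMap_injective A B)).not.mpr hp
  have hPle : p.map (algebraMap A B) ≤ P :=
    Ideal.map_le_iff_le_comap.2 (Ideal.LiesOver.over (P := P) (p := p)).le
  have hP : P ≠ ⊥ := fun h => hp' (le_bot_iff.1 (h ▸ hPle))
  have he := Ideal.IsDedekindDomain.ramificationIdx_eq_normalizedFactors_count p P hp'
  obtain ⟨Q, hPQ, hQ⟩ := Ideal.eq_prime_pow_mul_coprime hp' P
  rw [← he] at hQ
  have hD : differentIdeal A B ≠ ⊥ := differentIdeal_ne_bot
  have he1 : 1 ≤ P.ramificationIdx A := by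
    rw [he]
    exact (pow_dvd_iff_le_count P hP hp' 1).1 (by rw [pow_one]; exact Ideal.dvd_iff_le.2 hPle)
  set e := P.ramificationIdx A
  have hge : e - 1 ≤ (normalizedFactors (differentIdeal A B)).count P :=
    (pow_dvd_iff_le_count P hP hD _).1 (pow_sub_one_dvd_differentIdeal A (p := p) P e hp ⟨Q, hQ⟩)
  refine ⟨hge, ?_⟩
  have h1 : (normalizedFactors (differentIdeal A B)).count P = e - 1 ↔ ¬ P ^ e ∣ differentIdeal A B := by
    rw [pow_dvd_iff_le_count P hP hD]
    omega
  have hPe : P ^ e ≠ ⊥ := pow_ne_zero _ hP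
  have hQ0 : Q ≠ ⊥ := fun h => hp' (by rw [hQ, h, Ideal.mul_bot])
  haveI : IsLocalization (Algebra.algebraMapSubmonoid B A⁰) (FractionRing B) :=
    IsIntegralClosure.isLocalization _ (FractionRing A) _ _
  haveI : FiniteDimensional (FractionRing A) (FractionRing B) := .of_isLocalization A B A⁰
  let K := FractionRing A
  let L := FractionRing B
  have h2 : differentIdeal A B ≤ P ^ e ↔ ∀ x ∈ Q, Algebra.intTrace A B x ∈ p := by
    rw [differentialIdeal_le_iff (K := K) (L := L) hPe]
    have hinv : ((P ^ e : Ideal B) : FractionalIdeal B⁰ L)⁻¹ = (Q : FractionalIdeal B⁰ L) / p.map (algebraMap A B) := by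
      rw [hQ, FractionalIdeal.coeIdeal_mul, div_mul_eq_div_div_swap, div_self (by simpa using hQ0), one_div]
    rw [hinv]
    constructor
    · intro h x hx
      obtain ⟨π, hπ, hπ2⟩ := SetLike.exists_of_lt (Ideal.pow_right_strictAnti p hp (Ideal.IsMaximal.ne_top ‹_›)
        (show 1 < 2 by norm_num))
      simp only [pow_one] at hπ hπ2
      obtain ⟨J, hJ⟩ := Ideal.dvd_iff_le.2 ((Ideal.span_singleton_le_iff_mem _).2 hπ)
      have hJp : ¬ J ≤ p := fun hle => hπ2 (by
        rw [pow_two]
        exact Ideal.mul_mono le_rfl hle (hJ ▸ Ideal.mem_span_singleton_self π))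
      obtain ⟨j, hj, hjp⟩ := SetLike.not_le_iff_exists.1 hJp
      have hπ0 : π ≠ 0 := fun h0 => hπ2 (h0 ▸ zero_mem _)
      let z : L := algebraMap K L (algebraMap A K j / algebraMap A K π) * algebraMap B L x
      have hzmem : z ∈ ((Q : FractionalIdeal B⁰ L) / p.map (algebraMap A B) : FractionalIdeal B⁰ L) := by
        rw [FractionalIdeal.mem_div_iff_of_ne_zero (by simpa using hp')]
        intro y hy
        obtain ⟨y', hy', rfl⟩ := (FractionalIdeal.mem_coeIdeal _).1 hy
        have hjy : algebraMap A B j * y' ∈ Ideal.span {algebraMap A B π} := by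
          have hm : algebraMap A B j * y' ∈ J.map (algebraMap A B) * p.map (algebraMap A B) :=
            Ideal.mul_mem_mul (Ideal.mem_map_of_mem _ hj) hy'
          rw [← Ideal.map_mul, mul_comm, ← hJ, Ideal.map_span, Set.image_singleton] at hm
          exact hm
        obtain ⟨c, hc⟩ := Ideal.mem_span_singleton'.1 hjy
        refine (FractionalIdeal.mem_coeIdeal _).2 ⟨c * x, Ideal.mul_mem_left _ _ hx, ?_⟩
        have hc' := congrArg (algebraMap B L) hc
        simp only [map_mul, ← IsScalarTower.algebraMap_apply A B L] at hc'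
        have hπL : algebraMap A L π ≠ 0 := by
          rw [IsScalarTower.algebraMap_apply A K L]
          simpa using hπ0
        simp only [z, map_div₀, map_mul, ← IsScalarTower.algebraMap_apply A K L]
        rw [div_mul_eq_mul_div, div_mul_eq_mul_div, eq_div_iff hπL]
        linear_combination (algebraMap B L x) * hc'
      obtain ⟨a, ha⟩ := Submodule.mem_one.1 (h ⟨z, hzmem, rfl⟩)
      rw [LinearMap.coe_restrictScalars] at ha
      simp only [z] at ha
      rw [← Algebra.smul_def, map_smul, smul_eq_mul, ← Algebra.algebraMap_intTrace (A := A),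
        div_mul_eq_mul_div, eq_div_iff (by simpa using hπ0), ← map_mul, ← map_mul] at ha
      have hmem : j * Algebra.intTrace A B x ∈ p := by
        rw [← IsFractionRing.injective A K ha]
        exact Ideal.mul_mem_left _ _ hπ
      exact ((Ideal.IsMaximal.isPrime ‹_›).mem_or_mem hmem).resolve_left hjp
    · intro h
      rw [Submodule.map_le_iff_le_comap]
      intro x hx
      rw [Submodule.restrictScalars_mem, FractionalIdeal.mem_coe,
        FractionalIdeal.mem_div_iff_of_ne_zero (by simpa using hp')] at hx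
      rw [Submodule.mem_comap, LinearMap.coe_restrictScalars, ← FractionalIdeal.coe_one,
        ← div_self (G₀ := FractionalIdeal A⁰ K) (a := p) (by simpa using hp),
        FractionalIdeal.mem_coe, FractionalIdeal.mem_div_iff_of_ne_zero (by simpa using hp)]
      simp only [FractionalIdeal.mem_coeIdeal, forall_exists_index, and_imp,
        forall_apply_eq_imp_iff₂] at hx
      intro y hy'
      obtain ⟨y, hy, rfl : algebraMap A K _ = _⟩ := (FractionalIdeal.mem_coeIdeal _).mp hy'
      obtain ⟨z, hz, hz'⟩ := hx _ (Ideal.mem_map_of_mem _ hy)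
      have : Algebra.trace K L (algebraMap B L z) ∈ (p : FractionalIdeal A⁰ K) := by
        rw [← Algebra.algebraMap_intTrace (A := A)]
        exact ⟨Algebra.intTrace A B z, h z hz, rfl⟩
      rwa [mul_comm, ← smul_eq_mul, ← map_smul, Algebra.smul_def, mul_comm,
        ← IsScalarTower.algebraMap_apply, IsScalarTower.algebraMap_apply A B L, ← hz']
  have hpPe : p.map (algebraMap A B) ≤ P ^ e := hQ ▸ Ideal.mul_le_left
  have hpQ : p.map (algebraMap A B) ≤ Q := hQ ▸ Ideal.mul_le_right
  letI : Algebra (A ⧸ p) (B ⧸ P ^ e) := Ideal.Quotient.algebraQuotientOfLEComap (Ideal.map_le_iff_le_comap.1 hpPe)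
  haveI : IsScalarTower A (A ⧸ p) (B ⧸ P ^ e) := .of_algebraMap_eq' rfl
  haveI : Module.Finite (A ⧸ p) (B ⧸ P ^ e) := .of_restrictScalars_finite A _ _
  letI : Algebra (A ⧸ p) (B ⧸ Q) := Ideal.Quotient.algebraQuotientOfLEComap (Ideal.map_le_iff_le_comap.1 hpQ)
  haveI : IsScalarTower A (A ⧸ p) (B ⧸ Q) := .of_algebraMap_eq' rfl
  haveI : Module.Finite (A ⧸ p) (B ⧸ Q) := .of_restrictScalars_finite A _ _
  have hcop : IsCoprime (P ^ e) Q := (Ideal.isCoprime_iff_sup_eq.2 hPQ).pow_left
  let E : (B ⧸ p.map (algebraMap A B)) ≃ₐ[A ⧸ p] ((B ⧸ P ^ e) × B ⧸ Q) :=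
    { __ := (Ideal.quotEquivOfEq hQ).trans (Ideal.quotientMulEquivQuotientProd (P ^ e) Q hcop),
      commutes' := Quotient.ind fun _ ↦ rfl }
  have h3 : (∀ x ∈ Q, Algebra.intTrace A B x ∈ p) ↔ Algebra.trace (A ⧸ p) (B ⧸ P ^ e) = 0 := by
    constructor
    · intro h
      refine LinearMap.ext fun c => ?_
      obtain ⟨y, hy⟩ := Ideal.Quotient.mk_surjective (E.symm (c, 0))
      have hyQ : y ∈ Q := by
        have : (E (Ideal.Quotient.mk _ y)).2 = 0 := by rw [hy, E.apply_symm_apply]
        simpa [E, Ideal.Quotient.eq_zero_iff_mem] using this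
      have h' := h y hyQ
      rw [← Ideal.Quotient.eq_zero_iff_mem, ← Algebra.trace_quotient_eq_of_isDedekindDomain, hy,
        Algebra.trace_eq_of_algEquiv, Algebra.trace_prod_apply, map_zero, add_zero] at h'
      exact h'
    · intro h x hx
      have hx2 : (E (Ideal.Quotient.mk _ x)).2 = 0 := by
        simpa [E, Ideal.Quotient.eq_zero_iff_mem]
      rw [← Ideal.Quotient.eq_zero_iff_mem, ← Algebra.trace_quotient_eq_of_isDedekindDomain,
        ← Algebra.trace_eq_of_algEquiv E, Algebra.trace_prod_apply, h, LinearMap.zero_apply, hx2, map_zero, add_zero]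
  have hlen : Module.length (B ⧸ P ^ e) (B ⧸ P ^ e) = e := by
    rw [← Module.length_eq_of_surjective (S := B) (R := B ⧸ P ^ e) Ideal.Quotient.mk_surjective,
      length_pow_quot P hP (by omega)]
  have hPeP : P ^ e ≤ P := Ideal.pow_le_self (by omega)
  have hmne : P ^ e ≠ ⊤ := fun h => (Ideal.IsMaximal.ne_top ‹P.IsMaximal›) (top_le_iff.1 (h ▸ hPeP))
  haveI : IsLocalRing (B ⧸ P ^ e) :=
    haveI : Nontrivial (B ⧸ P ^ e) := Ideal.Quotient.nontrivial_iff.2 hmne
    IsLocalRing.of_unique_max_ideal ⟨P.map (Ideal.Quotient.mk (P ^ e)),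
      (Ideal.map_eq_top_or_isMaximal_of_surjective _ Ideal.Quotient.mk_surjective ‹_›).resolve_left fun h => by
        have h' := congrArg (Ideal.comap (Ideal.Quotient.mk (P ^ e))) h
        rw [Ideal.comap_map_of_surjective _ Ideal.Quotient.mk_surjective, ← RingHom.ker_eq_comap_bot, Ideal.mk_ker,
          Ideal.comap_top, sup_of_le_left hPeP] at h'
        exact Ideal.IsMaximal.ne_top ‹_› h',
      fun M hM => by
        haveI := Ideal.comap_isMaximal_of_surjective _ Ideal.Quotient.mk_surjective (K := M)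
        have hle : P ^ e ≤ M.comap (Ideal.Quotient.mk (P ^ e)) := fun z hz => by
          simp [Ideal.Quotient.eq_zero_iff_mem.2 hz]
        have hPM : P = M.comap (Ideal.Quotient.mk (P ^ e)) :=
          Ideal.IsMaximal.eq_of_le ‹_› (Ideal.IsMaximal.ne_top inferInstance) (Ideal.IsPrime.le_of_pow_le hle)
        exact (Ideal.map_comap_of_surjective _ Ideal.Quotient.mk_surjective M).symm.trans
          (congrArg (Ideal.map (Ideal.Quotient.mk (P ^ e))) hPM.symm)⟩
  have hres : Algebra.IsSeparable (A ⧸ p) (IsLocalRing.ResidueField (B ⧸ P ^ e)) ↔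
      Algebra.IsSeparable (A ⧸ p) (B ⧸ P) := by
    let g : B →+* IsLocalRing.ResidueField (B ⧸ P ^ e) :=
      (IsLocalRing.residue (B ⧸ P ^ e)).comp (Ideal.Quotient.mk (P ^ e))
    have hg : Function.Surjective g := IsLocalRing.residue_surjective.comp Ideal.Quotient.mk_surjective
    have hker : RingHom.ker g = P := by
      refine (Ideal.IsMaximal.eq_of_le ‹P.IsMaximal› (RingHom.ker_ne_top g) fun z hz => ?_).symm
      rw [RingHom.mem_ker, RingHom.comp_apply, IsLocalRing.residue_eq_zero_iff, IsLocalRing.mem_maximalIdeal,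
        mem_nonunits_iff]
      intro hu
      obtain ⟨w, hw⟩ := Ideal.Quotient.mk_surjective (↑hu.unit⁻¹ : B ⧸ P ^ e)
      have h1 : z * w - 1 ∈ P ^ e := by
        rw [← Ideal.Quotient.mk_eq_mk_iff_sub_mem, map_mul, hw, map_one]
        exact hu.mul_val_inv
      have h2 : (1 : B) ∈ P := by
        have := P.sub_mem (P.mul_mem_right w hz) (hPeP h1)
        simpa using this
      exact Ideal.IsMaximal.ne_top ‹_› ((Ideal.eq_top_iff_one P).2 h2)
    let e2 : (B ⧸ P) ≃+* IsLocalRing.ResidueField (B ⧸ P ^ e) :=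
      (Ideal.quotEquivOfEq hker.symm).trans (RingHom.quotientKerEquivOfSurjective hg)
    let E2 : (B ⧸ P) ≃ₐ[A ⧸ p] IsLocalRing.ResidueField (B ⧸ P ^ e) :=
      { e2 with commutes' := Quotient.ind fun _ ↦ rfl }
    exact ⟨fun h => AlgEquiv.Algebra.isSeparable E2.symm, fun h => AlgEquiv.Algebra.isSeparable E2⟩
  rw [h1, Ideal.dvd_iff_le, h2, h3]
  refine (S2219.result (A ⧸ p) (B ⧸ P ^ e)).trans (and_congr hres ?_)
  rw [hlen, ENat.toNat_natCast]
  exact cast_ne_zero_iff _ e (by omega)

end Groth.Agent.H29Disc
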