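import Groth.Agent.H29Disc.LengthDiscr
import Groth.Agent.H29Disc.Tame
import Mathlib.RingTheory.Jacobson.Ring

/-!
# Dimensions over a ground field of quotients by the discriminant and the different
-/

set_option autoImplicit false
set_option linter.style.haveILetI false

universe u

open nonZeroDivisors UniqueFactorizationMonoid

noncomputable section

namespace Groth.Agent.H29Disc

attribute [local instance] FractionRing.liftAlgebra FractionRing.isScalarTower_liftAlgebra

variable {k : Type u} [Field k]

/-- Length over a field and over a local algebra. -/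
theorem finrank_eq_length_mul (C : Type u) [CommRing C] [IsLocalRing C] [Algebra k C]
    [Module.Finite k (IsLocalRing.ResidueField C)] (M : Type u) [AddCommGroup M] [Module k M] [Module C M]
    [IsScalarTower k C M] {n : ℕ} (hn : Module.length C M = n) :
    Module.Finite k M ∧ Module.finrank k M = n * Module.finrank k (IsLocalRing.ResidueField C) := by
  haveI : IsLocalHom (algebraMap k C) := ⟨fun a ha => by
    rcases eq_or_ne a 0 with rfl | h
    · rw [map_zero] at ha; exact absurd ha not_isUnit_zero
    · exact h.isUnit⟩
  have h := IsLocalRing.length_restrictScalars k C M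
  haveI : Module.Finite (IsLocalRing.ResidueField k) (IsLocalRing.ResidueField C) :=
    Module.Finite.of_restrictScalars_finite k _ _
  have hsurj : Function.Surjective (algebraMap k (IsLocalRing.ResidueField k)) := IsLocalRing.residue_surjective
  rw [hn, ← Module.length_eq_of_surjective (S := k) hsurj,
    Module.length_eq_finrank (K := k) (M := IsLocalRing.ResidueField C)] at h
  have hfl : IsFiniteLength k M := Module.length_ne_top_iff.1 (by rw [h]; exact ENat.coe_ne_top (n * _))
  haveI : IsNoetherian k M := (isFiniteLength_iff_isNoetherian_isArtinian.1 hfl).1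
  haveI : Module.Finite k M := Module.IsNoetherian.finite k M
  refine ⟨inferInstance, ?_⟩
  rw [Module.length_eq_finrank] at h
  exact_mod_cast h

variable {B : Type u} [CommRing B] [IsDedekindDomain B] [Algebra k B] [Algebra.FiniteType k B]

omit [IsDedekindDomain B] in
theorem finite_quotient_maximal (P : Ideal B) [P.IsMaximal] : Module.Finite k (B ⧸ P) := by
  letI := Ideal.Quotient.field P
  exact finite_of_finite_type_of_isJacobsonRing k (B ⧸ P)

/-- The dimension of the quotient by a power of a maximal ideal. -/
theorem finrank_pow_quot (P : Ideal B) [P.IsMaximal] (hP : P ≠ ⊥) (d : ℕ) :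
    Module.Finite k (B ⧸ P ^ d) ∧ Module.finrank k (B ⧸ P ^ d) = d * Module.finrank k (B ⧸ P) := by
  rcases Nat.eq_zero_or_pos d with rfl | hd
  · haveI : Subsingleton (B ⧸ P ^ 0) := Ideal.Quotient.subsingleton_iff.2 (by rw [pow_zero, Ideal.one_eq_top])
    exact ⟨inferInstance, by rw [zero_mul]; exact Module.finrank_zero_of_subsingleton⟩
  let L := Localization.AtPrime P
  haveI : IsDiscreteValuationRing L := IsLocalization.AtPrime.isDiscreteValuationRing_of_dedekind_domain B hP L
  let m := IsLocalRing.maximalIdeal L
  let e := (IsLocalization.AtPrime.equivQuotMaximalIdealPow P L d).restrictScalars k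
  let e1 := (IsLocalization.AtPrime.equivQuotMaximalIdeal P L).symm
  have hres : ∀ z : B, e1 (IsLocalRing.residue L (algebraMap B L z)) = Ideal.Quotient.mk P z := fun z => by
    exact (RingEquiv.symm_apply_eq _).2 rfl
  let E1 : IsLocalRing.ResidueField L ≃ₐ[k] (B ⧸ P) :=
    { e1 with
      commutes' := fun a => (congrArg e1 (congrArg (IsLocalRing.residue L)
        (IsScalarTower.algebraMap_apply k B L a))).trans (hres _) }
  haveI := finite_quotient_maximal (k := k) P
  haveI : Module.Finite k (IsLocalRing.ResidueField L) := Module.Finite.equiv E1.symm.toLinearEquiv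
  obtain ⟨hf, hr⟩ := finrank_eq_length_mul (k := k) L (L ⧸ m ^ d) (n := d) (by
    rw [S8163.result L 1 (IsPrincipalIdealRing.ringKrullDim_eq_one L (IsDiscreteValuationRing.not_isField L))
      d hd]
    simp)
  exact ⟨Module.Finite.equiv e.symm.toLinearEquiv, by
    rw [e.toLinearEquiv.finrank_eq, hr, E1.toLinearEquiv.finrank_eq]⟩

/-- The dimension of the quotient by a nonzero ideal. -/
theorem finrank_quot_eq_sum (I : Ideal B) (hI : I ≠ ⊥) :
    Module.finrank k (B ⧸ I) =
      ∑ P ∈ (normalizedFactors I).toFinset, (normalizedFactors I).count P * Module.finrank k (B ⧸ P) := by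
  classical
  rw [← factors_eq_normalizedFactors]
  have hmax : ∀ P : (factors I).toFinset, (P : Ideal B).IsMaximal ∧ (P : Ideal B) ≠ ⊥ := fun P => by
    have hp := prime_of_factor _ (Multiset.mem_toFinset.1 P.2)
    exact ⟨(Ideal.isPrime_of_prime hp).isMaximal hp.ne_zero, hp.ne_zero⟩
  let e := IsDedekindDomain.quotientEquivPiFactors hI
  let E : (B ⧸ I) ≃ₐ[k] ∀ P : (factors I).toFinset, B ⧸ (P : Ideal B) ^ (factors I).count (P : Ideal B) :=
    { e with commutes' := fun a => IsDedekindDomain.quotientEquivPiFactors_mk hI (algebraMap k B a) }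
  haveI : ∀ P : (factors I).toFinset, Module.Finite k (B ⧸ (P : Ideal B) ^ (factors I).count (P : Ideal B)) :=
    fun P => haveI := (hmax P).1; (finrank_pow_quot (k := k) _ (hmax P).2 _).1
  rw [E.toLinearEquiv.finrank_eq, Module.finrank_pi_fintype]
  exact (Finset.sum_congr rfl fun P _ => haveI := (hmax P).1; (finrank_pow_quot (k := k) _ (hmax P).2 _).2).trans
    (Finset.sum_coe_sort (factors I).toFinset fun P => (factors I).count P * Module.finrank k (B ⧸ P))

variable {A : Type u} [CommRing A] [IsDedekindDomain A] [Algebra k A] [Algebra.FiniteType k A] [Algebra A B]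
  [IsScalarTower k A B] [Module.Finite A B] [Module.IsTorsionFree A B]
  [Algebra.IsSeparable (FractionRing A) (FractionRing B)]

omit [Algebra.FiniteType k B] in
/-- The quotients by the discriminant and the different have the same dimension. -/
theorem finrank_discr_eq {n : ℕ} (b : Module.Basis (Fin n) A B) (p : Ideal A) [p.IsMaximal]
    (hp : ∀ q : Ideal A, q.IsMaximal → Algebra.discr A b ∈ q → q = p) :
    Module.finrank k (A ⧸ Ideal.span {Algebra.discr A b}) = Module.finrank k (B ⧸ differentIdeal A B) := by
  classical
  obtain ⟨hmem, hlen⟩ := discr_facts b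
  let J : Ideal A := Ideal.span {Algebra.discr A b}
  by_cases hu : IsUnit (Algebra.discr A b)
  · haveI : Subsingleton (A ⧸ J) := Ideal.Quotient.subsingleton_iff.2 (Ideal.span_singleton_eq_top.2 hu)
    haveI : Subsingleton (B ⧸ differentIdeal A B) :=
      Ideal.Quotient.subsingleton_iff.2 (Ideal.eq_top_of_isUnit_mem _ hmem (hu.map _))
    rw [Module.finrank_zero_of_subsingleton (R := k) (M := A ⧸ J),
      Module.finrank_zero_of_subsingleton (R := k) (M := B ⧸ differentIdeal A B)]
  let C := A ⧸ J
  haveI : Nontrivial C := Ideal.Quotient.nontrivial_iff.2 (fun h => hu (Ideal.span_singleton_eq_top.1 h))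
  haveI : IsLocalRing C := by
    refine IsLocalRing.of_unique_max_ideal ?_
    obtain ⟨M, hM⟩ := Ideal.exists_maximal C
    refine ⟨M, hM, fun M' hM' => ?_⟩
    have key : ∀ N : Ideal C, N.IsMaximal → N.comap (Ideal.Quotient.mk J) = p := fun N hN =>
      hp _ (Ideal.comap_isMaximal_of_surjective _ Ideal.Quotient.mk_surjective) (by
        rw [Ideal.mem_comap, Ideal.Quotient.eq_zero_iff_mem.2 (Ideal.mem_span_singleton_self _)]
        exact N.zero_mem)
    rw [← Ideal.map_comap_of_surjective _ Ideal.Quotient.mk_surjective M,
      ← Ideal.map_comap_of_surjective _ Ideal.Quotient.mk_surjective M', key M hM, key M' hM']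
  have hle : J ≤ (differentIdeal A B).comap (algebraMap A B) := by
    rw [Ideal.span_le, Set.singleton_subset_iff]
    exact hmem
  letI : Algebra C (B ⧸ differentIdeal A B) := Ideal.Quotient.algebraQuotientOfLEComap hle
  haveI : IsScalarTower A C (B ⧸ differentIdeal A B) := .of_algebraMap_eq' rfl
  haveI : IsScalarTower k C (B ⧸ differentIdeal A B) := .of_algebraMap_eq fun a =>
    (congrArg (Ideal.Quotient.mk (differentIdeal A B)) (IsScalarTower.algebraMap_apply k A B a))
  haveI : Module.Finite k (IsLocalRing.ResidueField C) := by
    haveI : Algebra.FiniteType k (IsLocalRing.ResidueField C) :=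
      ((inferInstance : Algebra.FiniteType k A).of_surjective (Ideal.Quotient.mkₐ k J)
        Ideal.Quotient.mk_surjective).of_surjective (IsScalarTower.toAlgHom k C _) IsLocalRing.residue_surjective
    exact finite_of_finite_type_of_isJacobsonRing k _
  have hd : Ring.ord A (Algebra.discr A b) ≠ ⊤ := Ring.ord_ne_top (mem_nonZeroDivisors_of_ne_zero fun h0 => by
    let K := FractionRing A
    let L := FractionRing B
    haveI : IsLocalization (Algebra.algebraMapSubmonoid B A⁰) L := IsIntegralClosure.isLocalization _ K _ _
    haveI : FiniteDimensional K L := .of_isLocalization A B A⁰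
    refine Algebra.discr_not_zero_of_basis K (b.localizationLocalization K A⁰ L) ?_
    rw [Algebra.discr_localizationLocalization A A⁰ L b, h0, map_zero])
  obtain ⟨m, hm⟩ := ENat.ne_top_iff_exists.1 hd
  have h1 : Module.length C C = m := by
    rw [← Module.length_eq_of_surjective (S := A) (R := C) Ideal.Quotient.mk_surjective]
    exact hm.symm
  have h2 : Module.length C (B ⧸ differentIdeal A B) = m := by
    rw [← Module.length_eq_of_surjective (S := A) (R := C) Ideal.Quotient.mk_surjective, hlen]
    exact hm.symm
  rw [(finrank_eq_length_mul (k := k) C C h1).2, (finrank_eq_length_mul (k := k) C _ h2).2]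

end Groth.Agent.H29Disc
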