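import Groth.Agent.H29Disc.Degree
import Groth.Agent.H29Disc.Dims
import Groth.Agent.H25Par.StalkProd
import Mathlib.RingTheory.Localization.AtPrime.Extension
import Mathlib.AlgebraicGeometry.Morphisms.QuasiFinite

/-!
# Charts isolating one point of the discriminant
-/

set_option autoImplicit false
set_option linter.style.haveILetI false

universe u

open CategoryTheory CategoryTheory.Limits AlgebraicGeometry TopologicalSpace Opposite
open IsLocalRing

noncomputable section

namespace Groth.Agent.H29Disc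

attribute [local instance] Curv2.resAlgebra

/-- The constants in the sections over an open. -/
@[reducible] def constAlg (k : Type u) [Field k] {X : Scheme.{u}} [X.Over (Spec (CommRingCat.of k))] (U : X.Opens) :
    Algebra k Γ(X, U) :=
  ((X.presheaf.map (homOfLE (le_top : U ≤ ⊤)).op).hom.comp (Coh.toGlobal (X ↘ Spec (CommRingCat.of k)))).toAlgebra

variable {k : Type u} [Field k] {X Y : Scheme.{u}}

theorem germ_const [X.Over (Spec (CommRingCat.of k))] (U : X.Opens) (x : X) (hx : x ∈ U) (a : k) :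
    letI := constAlg k U
    X.presheaf.germ U x hx (algebraMap k Γ(X, U) a) = Curv2.stalkMap k X x a :=
  X.presheaf.germ_res_apply (homOfLE (le_top : U ≤ ⊤)) x hx _

theorem finiteType_constAlg [X.Over (Spec (CommRingCat.of k))]
    [LocallyOfFiniteType (X ↘ Spec (CommRingCat.of k))] {U : X.Opens} (hU : IsAffineOpen U) :
    letI := constAlg k U
    Algebra.FiniteType k Γ(X, U) :=
  ((X ↘ Spec (CommRingCat.of k)).finiteType_appLE (isAffineOpen_top _) hU
    (le_top.trans (Scheme.Hom.preimage_top _).ge)).comp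
    (RingHom.FiniteType.of_surjective _
      (Scheme.ΓSpecIso (CommRingCat.of k)).commRingCatIsoToRingEquiv.symm.surjective)

theorem const_compat [X.Over (Spec (CommRingCat.of k))] [Y.Over (Spec (CommRingCat.of k))] (f : X ⟶ Y)
    (hf : f ≫ (Y ↘ Spec (CommRingCat.of k)) = X ↘ Spec (CommRingCat.of k)) (U : Y.Opens) :
    letI := constAlg k U
    letI := constAlg k (f ⁻¹ᵁ U)
    letI := alg f U
    IsScalarTower k Γ(Y, U) Γ(X, f ⁻¹ᵁ U) := by
  letI := constAlg k U
  letI := constAlg k (f ⁻¹ᵁ U)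
  letI := alg f U
  refine IsScalarTower.of_algebraMap_eq fun a => ?_
  show X.presheaf.map _ (Coh.toGlobal (X ↘ Spec (CommRingCat.of k)) a) =
    f.app U (Y.presheaf.map _ (Coh.toGlobal (Y ↘ Spec (CommRingCat.of k)) a))
  refine Eq.trans ?_ (congr($(f.naturality (homOfLE (le_top : U ≤ ⊤)).op)
    (Coh.toGlobal (Y ↘ Spec (CommRingCat.of k)) a))).symm
  refine congrArg (X.presheaf.map _) ?_
  rw [← hf]
  show (f ≫ (Y ↘ Spec (CommRingCat.of k))).appTop _ = f.appTop _
  rw [Scheme.Hom.comp_appTop]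
  rfl

theorem isClosed_of_map [JacobsonSpace Y] (f : X ⟶ Y) [LocallyQuasiFinite f] {x : X}
    (hy : IsClosed ({f x} : Set Y)) : IsClosed ({x} : Set X) := by
  haveI := (f.isDiscrete_preimage_singleton (f x)).to_subtype
  have hs : IsClosed (f ⁻¹' ({f x} : Set Y)) := hy.preimage f.continuous
  have h := hs.isClosedMap_subtype_val _ (isClosed_discrete ({⟨x, rfl⟩} : Set (f ⁻¹' ({f x} : Set Y))))
  rwa [Set.image_singleton] at h

theorem ramificationIdx_eq_length {R S L : Type u} [CommRing R] [CommRing S] [Algebra R S] (q : Ideal S) [q.IsPrime]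
    [CommRing L] [Algebra S L] [IsLocalization.AtPrime L q] [Algebra R L] [IsScalarTower R S L] :
    q.ramificationIdx R = (Module.length L (L ⧸ (q.under R).map (algebraMap R L))).toNat := by
  rw [Ideal.ramificationIdx_def]
  let Sq := Localization.AtPrime q
  let e : Sq ≃ₐ[S] L := IsLocalization.algEquiv q.primeCompl Sq L
  letI : Algebra Sq L := e.toRingEquiv.toRingHom.toAlgebra
  have h : Function.Bijective (algebraMap Sq L) := e.bijective
  have hc : ∀ r : R, algebraMap Sq L (algebraMap R Sq r) = algebraMap R L r := fun r => by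
    rw [IsScalarTower.algebraMap_apply R S Sq, IsScalarTower.algebraMap_apply R S L]
    exact e.commutes _
  have key : (q.under R).map (algebraMap R Sq) =
      ((q.under R).map (algebraMap R L)).comap (algebraMap Sq L) := by
    rw [← RingHom.ext (f := (algebraMap Sq L).comp (algebraMap R Sq)) (g := algebraMap R L) hc,
      ← Ideal.map_map, Ideal.comap_map_of_bijective _ h]
  rw [Module.length_quotient, Module.length_quotient, key, Ideal.coheight_comap_of_surjective _ h.2]

variable (f : X ⟶ Y)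

theorem germ_app {U : Y.Opens} {x : X} (hx : x ∈ f ⁻¹ᵁ U) (a : Γ(Y, U)) :
    f.stalkMap x (Y.presheaf.germ U (f x) hx a) = X.presheaf.germ (f ⁻¹ᵁ U) x hx (f.app U a) :=
  Scheme.Hom.germ_stalkMap_apply f U x hx a

variable [IsIntegral X] [IsIntegral Y] [IsFinite f]

omit [IsIntegral X] [IsIntegral Y] [IsFinite f] in
theorem liesOver_prime [IsAffineHom f] {U : Y.Opens} (hU : IsAffineOpen U) {x : X} (hx : x ∈ f ⁻¹ᵁ U) :
    letI := alg f U
    ((hU.preimage f).primeIdealOf ⟨x, hx⟩).asIdeal.LiesOver (hU.primeIdealOf ⟨f x, hx⟩).asIdeal := by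
  letI := alg f U
  constructor
  have h := congrArg PrimeSpectrum.asIdeal
    (IsAffineOpen.comap_primeIdealOf_appLE U hU (f ⁻¹ᵁ U) (hU.preimage f) le_rfl hx)
  rw [← Scheme.Hom.app_eq_appLE] at h
  exact h.symm

omit [IsIntegral X] [IsIntegral Y] [IsFinite f] in
/-- The ramification index in a chart and in the local rings. -/
theorem ramificationIdx_chart [IsAffineHom f] {U : Y.Opens} (hU : IsAffineOpen U) {x : X} (hx : x ∈ f ⁻¹ᵁ U) :
    letI := alg f U
    letI := (f.stalkMap x).hom.toAlgebra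
    ((hU.preimage f).primeIdealOf ⟨x, hx⟩).asIdeal.ramificationIdx Γ(Y, U) =
      Ideal.ramificationIdx (IsLocalRing.maximalIdeal (X.presheaf.stalk x)) (Y.presheaf.stalk (f x)) := by
  letI := alg f U
  letI := (f.stalkMap x).hom.toAlgebra
  let A := Γ(Y, U)
  let B := Γ(X, f ⁻¹ᵁ U)
  let R := Y.presheaf.stalk (f x)
  let L := X.presheaf.stalk x
  let P := ((hU.preimage f).primeIdealOf ⟨x, hx⟩).asIdeal
  let p := (hU.primeIdealOf ⟨f x, hx⟩).asIdeal
  letI : Algebra B L := TopCat.Presheaf.algebra_section_stalk X.presheaf (⟨x, hx⟩ : (f ⁻¹ᵁ U : X.Opens))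
  haveI : IsLocalization.AtPrime L P := (hU.preimage f).isLocalization_stalk ⟨x, hx⟩
  letI : Algebra A R := TopCat.Presheaf.algebra_section_stalk Y.presheaf (⟨f x, hx⟩ : U)
  haveI : IsLocalization.AtPrime R p := hU.isLocalization_stalk ⟨f x, hx⟩
  letI : Algebra A L := ((algebraMap B L).comp (algebraMap A B)).toAlgebra
  haveI : IsScalarTower A B L := .of_algebraMap_eq' rfl
  haveI : IsScalarTower A R L := .of_algebraMap_eq fun a => (germ_app f hx a).symm
  haveI : IsLocalization.AtPrime L (maximalIdeal L) := IsLocalization.self fun z hz =>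
    not_not.1 fun h => hz ((IsLocalRing.mem_maximalIdeal z).2 h)
  haveI : IsLocalHom (algebraMap R L) := inferInstanceAs (IsLocalHom (f.stalkMap x).hom)
  haveI := liesOver_prime f hU hx
  rw [ramificationIdx_eq_length (R := A) (L := L) P, ramificationIdx_eq_length (R := R) (L := L) (maximalIdeal L),
    show P.under A = p from (Ideal.LiesOver.over (P := P) (p := p)).symm,
    show (maximalIdeal L).under R = maximalIdeal R from IsLocalRing.maximalIdeal_comap _,
    ← IsLocalization.AtPrime.map_eq_maximalIdeal p R, Ideal.map_map, ← IsScalarTower.algebraMap_eq]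

omit [IsIntegral X] [IsIntegral Y] [IsFinite f] in
/-- The residue field of a closed point as a quotient of the sections. -/
theorem exists_residueEquiv [X.Over (Spec (CommRingCat.of k))] {V : X.Opens} (hV : IsAffineOpen V) {x : X}
    (hx : x ∈ V) (hcl : IsClosed ({x} : Set X)) :
    letI := constAlg k V
    ∃ e : (Γ(X, V) ⧸ (hV.primeIdealOf ⟨x, hx⟩).asIdeal) ≃ₐ[k] X.residueField x,
      ∀ a, e (Ideal.Quotient.mk _ a) = X.residue x (X.presheaf.germ V x hx a) := by
  letI := constAlg k V
  let P := (hV.primeIdealOf ⟨x, hx⟩).asIdeal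
  haveI : P.IsMaximal := hV.primeIdealOf_isMaximal_of_isClosed ⟨x, hx⟩ hcl
  letI : Algebra Γ(X, V) (X.presheaf.stalk x) :=
    TopCat.Presheaf.algebra_section_stalk X.presheaf (⟨x, hx⟩ : V)
  haveI : IsLocalization.AtPrime (X.presheaf.stalk x) P := hV.isLocalization_stalk ⟨x, hx⟩
  let e := IsLocalization.AtPrime.equivQuotMaximalIdeal P (X.presheaf.stalk x)
  refine ⟨{ e with commutes' := fun a => ?_ }, fun a => rfl⟩
  exact congrArg (X.residue x) (germ_const V x hx a)

omit [IsIntegral X] [IsIntegral Y] [IsFinite f] in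
/-- Separability of the residue extension in a chart and at the point. -/
theorem isSeparable_chart [IsAffineHom f] {U : Y.Opens} (hU : IsAffineOpen U) {x : X} (hx : x ∈ f ⁻¹ᵁ U)
    [(hU.primeIdealOf ⟨f x, hx⟩).asIdeal.IsMaximal]
    [((hU.preimage f).primeIdealOf ⟨x, hx⟩).asIdeal.IsMaximal] :
    letI := alg f U
    haveI := liesOver_prime f hU hx
    letI := (f.residueFieldMap x).hom.toAlgebra
    letI := Ideal.Quotient.field (hU.primeIdealOf ⟨f x, hx⟩).asIdeal
    letI := Ideal.Quotient.field ((hU.preimage f).primeIdealOf ⟨x, hx⟩).asIdeal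
    (Algebra.IsSeparable (Γ(Y, U) ⧸ (hU.primeIdealOf ⟨f x, hx⟩).asIdeal)
        (Γ(X, f ⁻¹ᵁ U) ⧸ ((hU.preimage f).primeIdealOf ⟨x, hx⟩).asIdeal) ↔
      Algebra.IsSeparable (Y.residueField (f x)) (X.residueField x)) ∧
      ∀ n : ℕ, (n : Γ(Y, U) ⧸ (hU.primeIdealOf ⟨f x, hx⟩).asIdeal) ≠ 0 ↔ (n : Y.residueField (f x)) ≠ 0 := by
  letI := alg f U
  haveI := liesOver_prime f hU hx
  letI := (f.residueFieldMap x).hom.toAlgebra
  let p := (hU.primeIdealOf ⟨f x, hx⟩).asIdeal
  let P := ((hU.preimage f).primeIdealOf ⟨x, hx⟩).asIdeal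
  letI := Ideal.Quotient.field p
  letI := Ideal.Quotient.field P
  letI : Algebra Γ(Y, U) (Y.presheaf.stalk (f x)) :=
    TopCat.Presheaf.algebra_section_stalk Y.presheaf (⟨f x, hx⟩ : U)
  haveI : IsLocalization.AtPrime (Y.presheaf.stalk (f x)) p := hU.isLocalization_stalk ⟨f x, hx⟩
  letI : Algebra Γ(X, f ⁻¹ᵁ U) (X.presheaf.stalk x) :=
    TopCat.Presheaf.algebra_section_stalk X.presheaf (⟨x, hx⟩ : (f ⁻¹ᵁ U : X.Opens))
  haveI : IsLocalization.AtPrime (X.presheaf.stalk x) P := (hU.preimage f).isLocalization_stalk ⟨x, hx⟩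
  let e1 : (Γ(Y, U) ⧸ p) ≃+* Y.residueField (f x) :=
    IsLocalization.AtPrime.equivQuotMaximalIdeal p (Y.presheaf.stalk (f x))
  let e2 : (Γ(X, f ⁻¹ᵁ U) ⧸ P) ≃+* X.residueField x :=
    IsLocalization.AtPrime.equivQuotMaximalIdeal P (X.presheaf.stalk x)
  have hcomm : (algebraMap (Y.residueField (f x)) (X.residueField x)).comp e1.toRingHom =
      e2.toRingHom.comp (algebraMap (Γ(Y, U) ⧸ p) (Γ(X, f ⁻¹ᵁ U) ⧸ P)) := by
    refine RingHom.ext fun a => ?_
    obtain ⟨a', rfl⟩ := Ideal.Quotient.mk_surjective a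
    show f.residueFieldMap x (Y.residue (f x) (Y.presheaf.germ U (f x) hx a')) =
      X.residue x (X.presheaf.germ (f ⁻¹ᵁ U) x hx (f.app U a'))
    rw [← germ_app f hx a']
    exact congr($(Scheme.residue_residueFieldMap f x) (Y.presheaf.germ U (f x) hx a'))
  refine ⟨⟨fun h => ?_, fun h => ?_⟩, fun n => ?_⟩
  · haveI := h
    exact Algebra.IsSeparable.of_equiv_equiv e1 e2 hcomm
  · haveI := h
    refine Algebra.IsSeparable.of_equiv_equiv e1.symm e2.symm (RingHom.ext fun a => ?_)
    apply e2.injective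
    have h := RingHom.congr_fun hcomm (e1.symm a)
    simp only [RingHom.comp_apply, RingEquiv.toRingHom_eq_coe, RingEquiv.coe_toRingHom, RingEquiv.apply_symm_apply] at h ⊢
    exact h.symm
  · rw [← map_natCast e1 n, map_ne_zero_iff e1 e1.injective]

end Groth.Agent.H29Disc
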