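import Groth.Agent.H29Disc.Section
import Groth.Agent.H10Coh.AffinePush
import Groth.Agent.H8Props.FinLocFree.Sheaf
import Mathlib.RingTheory.Localization.NormTrace
import Mathlib.RingTheory.Algebraic.Integral

/-!
# The discriminant of a separable finite morphism of integral schemes is nonzero
-/

set_option autoImplicit false
set_option linter.style.haveILetI false

universe u

open CategoryTheory CategoryTheory.Limits AlgebraicGeometry TopologicalSpace Opposite
open scoped nonZeroDivisors

noncomputable section

namespace Groth.Agent.H29Disc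

variable {X Y : Scheme.{u}} (f : X ⟶ Y) [IsIntegral X] [IsIntegral Y]
  (e : f (genericPoint X) = genericPoint Y)

/-- The extension of function fields. -/
@[reducible] def funAlg : Algebra Y.functionField X.functionField :=
  ((Y.presheaf.stalkSpecializes (specializes_of_eq e) ≫ f.stalkMap (genericPoint X)).hom).toAlgebra

theorem funAlg_germ (U : Y.Opens) [Nonempty U] [Nonempty (f ⁻¹ᵁ U : X.Opens)] (r : Γ(Y, U)) :
    letI := funAlg f e
    algebraMap Y.functionField X.functionField (Y.germToFunctionField U r) =
      X.germToFunctionField (f ⁻¹ᵁ U) (f.app U r) := by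
  show f.stalkMap (genericPoint X) (Y.presheaf.stalkSpecializes (specializes_of_eq e)
    (Y.presheaf.germ U (genericPoint Y) _ r)) = _
  rw [TopCat.Presheaf.germ_stalkSpecializes_apply, Scheme.Hom.germ_stalkMap_apply]

include e in
theorem nonempty_preimage (U : Y.Opens) (hU : (U : Set Y).Nonempty) : Nonempty (f ⁻¹ᵁ U : X.Opens) := by
  obtain ⟨y, hy⟩ := hU
  refine ⟨⟨genericPoint X, ?_⟩⟩
  show f (genericPoint X) ∈ U
  rw [e]
  exact (genericPoint_spec Y).specializes (Set.mem_univ y) |>.mem_open U.2 hy

variable [IsFinite f]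

/-- The length of a frame is the degree of the function field extension and its discriminant is nonzero. -/
theorem frame_facts {n : ℕ} (hsep : letI := funAlg f e; Algebra.IsSeparable Y.functionField X.functionField)
    (c : Frame f n) (hne : (c.U : Set Y).Nonempty) :
    (letI := funAlg f e; n = Module.finrank Y.functionField X.functionField) ∧ disc c.b ≠ 0 := by
  classical
  haveI : Nonempty c.U := ⟨⟨hne.choose, hne.choose_spec⟩⟩
  haveI := nonempty_preimage f e c.U hne
  let A := Γ(Y, c.U)
  let B := Γ(X, f ⁻¹ᵁ c.U)
  let K := Y.functionField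
  let L := X.functionField
  letI := funAlg f e
  letI := alg f c.U
  haveI : Algebra.IsSeparable K L := hsep
  letI : Algebra A L := ((Y.germToFunctionField c.U).hom |> (algebraMap K L).comp).toAlgebra
  haveI : IsScalarTower A K L := .of_algebraMap_eq fun _ => rfl
  haveI : IsScalarTower A B L := .of_algebraMap_eq fun r => funAlg_germ f e c.U r
  haveI : IsFractionRing A K := functionField_isFractionRing_of_isAffineOpen Y c.U c.hU
  haveI : IsFractionRing B L := functionField_isFractionRing_of_isAffineOpen X (f ⁻¹ᵁ c.U) (c.hU.preimage f)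
  haveI : Module.Finite A B := IsFinite.finite_app (f := f) c.U c.hU
  haveI : IsDomain A := inferInstance
  haveI : IsDomain B := inferInstance
  haveI : FaithfulSMul A B := by
    refine (faithfulSMul_iff_algebraMap_injective A B).2 fun a a' h => ?_
    have h' : algebraMap A L a = algebraMap A L a' := by
      rw [IsScalarTower.algebraMap_apply A B L, h, ← IsScalarTower.algebraMap_apply A B L]
    exact IsFractionRing.injective A K ((algebraMap K L).injective h')
  haveI : Algebra.IsIntegral A B := Algebra.IsIntegral.of_finite A B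
  haveI : Algebra.IsAlgebraic A B := Algebra.IsIntegral.isAlgebraic
  let bK := (fnBasis c.b).localizationLocalization K A⁰ L
  haveI : Module.Finite K L := Module.Finite.of_basis bK
  refine ⟨?_, fun h0 => Algebra.discr_not_zero_of_basis K bK ?_⟩
  · rw [Module.finrank_eq_card_basis bK, Fintype.card_fin]
  · rw [Algebra.discr_localizationLocalization]
    show algebraMap A K (disc c.b) = 0
    rw [h0]
    exact map_zero _

omit [IsIntegral X] [IsIntegral Y] in
/-- The direct image of the structure sheaf of a finite flat morphism is finite locally free. -/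
theorem isFinLocFree_pushO [IsLocallyNoetherian Y] [Flat f] : FlatMod.IsFinLocFree (pushO f) := by
  haveI : (Coh.structureModule X).IsQuasicoherent :=
    (H11Ample.isCoh_of_isInvertible H11Ample.isInvertible_structureModule).1
  refine H8Props.FinLocFree.isFinLocFree_of_sections _ (H10Coh.isQuasicoherent_pushforward_of_isAffineHom f _) fun y => ?_
  obtain ⟨U, hU, hyU, -⟩ := exists_isAffineOpen_mem_and_subset (U := (⊤ : Y.Opens)) (x := y) trivial
  haveI : IsNoetherianRing Γ(Y, U) := IsLocallyNoetherian.component_noetherian ⟨U, hU⟩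
  letI := alg f U
  haveI : Module.Finite Γ(Y, U) Γ(X, f ⁻¹ᵁ U) := IsFinite.finite_app (f := f) U hU
  haveI : Module.Flat Γ(Y, U) Γ(X, f ⁻¹ᵁ U) := by
    have h := HasRingHomProperty.appLE (P := @Flat) f inferInstance ⟨U, hU⟩ ⟨f ⁻¹ᵁ U, hU.preimage f⟩ le_rfl
    rw [← Scheme.Hom.app_eq_appLE] at h
    exact h
  haveI : Module.Finite Γ(Y, U) Γ(pushO f, U) := Module.Finite.equiv (fnEquiv f U).symm
  haveI : Module.Flat Γ(Y, U) Γ(pushO f, U) := Module.Flat.of_linearEquiv (fnEquiv f U)
  exact ⟨U, hU, hyU, (Module.finitePresentation_of_finite Γ(Y, U) Γ(pushO f, U) :), ‹_›⟩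

/-- The direct image has the degree as rank. -/
theorem rank_pushO [IsLocallyNoetherian Y] [Flat f]
    (hsep : letI := funAlg f e; Algebra.IsSeparable Y.functionField X.functionField) :
    letI := funAlg f e
    FlatMod.IsFinLocFreeOfRank (Module.finrank Y.functionField X.functionField) (pushO f) := by
  intro y
  obtain ⟨V, m, hyV, ⟨φ⟩⟩ := isFinLocFree_pushO f y
  obtain ⟨U, hU, hyU, hUV⟩ := exists_isAffineOpen_mem_and_subset (x := y) (U := V) hyV
  obtain ⟨b⟩ := H8Props.FinLocFree.exists_basis_of_chart (pushO f) φ hUV
  obtain ⟨hm, -⟩ := frame_facts f e hsep ⟨U, hU, b⟩ ⟨y, hyU⟩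
  exact ⟨V, hyV, ⟨hm ▸ φ⟩⟩

end Groth.Agent.H29Disc
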