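import Groth.Agent.H29Disc.Generic
import Groth.Agent.S7638
import Groth.Agent.H29RR.MonoHom
import Groth.Agent.H28Int.Push

/-!
# The Euler characteristic of a separable cover of an integral curve
-/

set_option autoImplicit false
set_option linter.style.haveILetI false

universe u

open CategoryTheory CategoryTheory.Limits AlgebraicGeometry TopologicalSpace Opposite

noncomputable section

namespace Groth.Agent.H29Disc

variable {k : Type u} [Field k] {X Y : Scheme.{u}} [X.Over (Spec (CommRingCat.of k))] [Y.Over (Spec (CommRingCat.of k))]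
  [IsIntegral X] [IsIntegral Y] [IsProper (Y ↘ Spec (CommRingCat.of k))]
  (f : X ⟶ Y) [IsFinite f] [Flat f] (e : f (genericPoint X) = genericPoint Y)

omit [X.Over (Spec (CommRingCat.of k))] [Y.Over (Spec (CommRingCat.of k))] [IsProper (Y ↘ Spec (CommRingCat.of k))]
  [IsIntegral X] [IsIntegral Y] [IsFinite f] [Flat f] in
theorem isInvertible_detO {n : ℕ} (hE : FlatMod.IsFinLocFreeOfRank n (pushO f)) :
    PicF.IsInvertible (detO f n) := by
  have hEq : Coh.IsQCoh (pushO f) :=
    H8Props.FinLocFree.isQCoh_of_isFinLocFree _ (fun y => let ⟨U, hU⟩ := hE y; ⟨U, n, hU⟩)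
  refine H11Ample.isInvertible_of_gen fun y => ?_
  obtain ⟨c, hy⟩ := exists_frame hE y
  exact ⟨c.U, _, hy, isGen_omega hEq c.hU c.b⟩

/-- The discriminant cokernel measures the defect of the Euler characteristic. -/
theorem exists_disc_coker (hdY : topologicalKrullDim Y ≤ 1)
    (hf : f ≫ (Y ↘ Spec (CommRingCat.of k)) = X ↘ Spec (CommRingCat.of k))
    (hsep : letI := funAlg f e; Algebra.IsSeparable Y.functionField X.functionField) :
    letI := funAlg f e
    ∃ δ : CohB1.tensorMod (detO f (Module.finrank Y.functionField X.functionField))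
        (detO f (Module.finrank Y.functionField X.functionField)) ⟶ Coh.structureModule Y,
      (∀ c : Frame f (Module.finrank Y.functionField X.functionField),
        δ.app c.U (H11Ample.tm (omega c.b) (omega c.b)) = disc c.b) ∧
      Coh.IsCoh (cokernel δ) ∧ (CohB1.support (cokernel δ)).Finite ∧
      (∀ z ∈ CohB1.support (cokernel δ), IsClosed ({z} : Set Y)) ∧
      2 * (Curv2.euler k X (Coh.structureModule X) -
          (Module.finrank Y.functionField X.functionField : ℤ) * Curv2.euler k Y (Coh.structureModule Y)) =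
        - (Module.finrank k (Coh.HH Y (cokernel δ) 0) : ℤ) := by
  letI := funAlg f e
  haveI := H29RR.isNoetherian_of_proper (k := k) (X := Y)
  have hE := rank_pushO f e hsep
  obtain ⟨n, hn⟩ : ∃ n, Module.finrank Y.functionField X.functionField = n := ⟨_, rfl⟩
  rw [hn] at hE ⊢
  have hEf : FlatMod.IsFinLocFree (pushO f) := isFinLocFree_pushO f
  have hEq : Coh.IsQCoh (pushO f) := H8Props.FinLocFree.isQCoh_of_isFinLocFree _ hEf
  have hL := isInvertible_detO f hE
  have hLL := H11Ample.isInvertible_tensor hL hL
  obtain ⟨δ, hδ⟩ := exists_discHom hE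
  have hne : δ ≠ 0 := by
    intro h0
    obtain ⟨c, hy⟩ := exists_frame hE (genericPoint Y)
    refine (frame_facts f e hsep c ⟨_, hy⟩).2 ?_
    rw [← hδ c, h0]
    rfl
  obtain ⟨hm, hη⟩ := H29RR.mono_of_ne_zero hLL H11Ample.isInvertible_structureModule hne
  haveI := hm
  obtain ⟨hC, hfin, hcl, he⟩ := H29RR.euler_sub_of_mono (k := k) hdY (H11Ample.isCoh_of_isInvertible hLL)
    (H10Coh.isCoh_structureModule' Y) δ hη
  refine ⟨δ, hδ, hC, hfin, hcl, ?_⟩
  have h2 := H29RR.deg_tensor (k := k) hdY hL hL
  have h1 := S7638.result k Y hdY n (pushO f) hE (detO f n) (H22Alg.ExtPowSheaf.isExtPow_sheaf hEq)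
  haveI : (Coh.structureModule X).IsQuasicoherent :=
    (H11Ample.isCoh_of_isInvertible H11Ample.isInvertible_structureModule).1
  have h3 := H28Int.Push.euler_push k f hf (Coh.structureModule X)
  rw [H29RR.deg_def, H29RR.deg_def] at h2
  rw [Curv2.deg, H29RR.deg_def, h3] at h1
  omega

include e in
/-- The arithmetic genus does not drop in a separable cover, with the degree as factor. -/
theorem euler_le (hdY : topologicalKrullDim Y ≤ 1)
    (hf : f ≫ (Y ↘ Spec (CommRingCat.of k)) = X ↘ Spec (CommRingCat.of k))
    (hsep : letI := funAlg f e; Algebra.IsSeparable Y.functionField X.functionField) :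
    letI := funAlg f e
    Curv2.euler k X (Coh.structureModule X) ≤
      (Module.finrank Y.functionField X.functionField : ℤ) * Curv2.euler k Y (Coh.structureModule Y) := by
  obtain ⟨δ, -, -, -, -, h⟩ := exists_disc_coker f e hdY hf hsep
  omega

end Groth.Agent.H29Disc
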