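import Groth.Agent.H29Disc.Isolate
import Groth.Agent.H29Curve.Morphism

/-!
# The exponents of the different of a separable cover of curves
-/

set_option autoImplicit false
set_option linter.style.haveILetI false

universe u

open CategoryTheory CategoryTheory.Limits AlgebraicGeometry TopologicalSpace Opposite
open Groth.Agent.H11Ample UniqueFactorizationMonoid

noncomputable section

namespace Groth.Agent.H29Disc

attribute [local instance] FractionRing.liftAlgebra FractionRing.isScalarTower_liftAlgebra
attribute [local instance] Curv2.resAlgebra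

variable {k : Type u} [Field k] {X Y : Scheme.{u}} [X.Over (Spec (CommRingCat.of k))] [Y.Over (Spec (CommRingCat.of k))]
  [IsIntegral X] [IsIntegral Y] [IsProper (X ↘ Spec (CommRingCat.of k))] [IsProper (Y ↘ Spec (CommRingCat.of k))]
  (f : X ⟶ Y) [IsFinite f] (e : f (genericPoint X) = genericPoint Y)

omit [IsProper (X ↘ Spec (CommRingCat.of k))] [IsFinite f] [IsIntegral X] [X.Over (Spec (CommRingCat.of k))] in
theorem closedPoint_prime_ne_bot (hdY : topologicalKrullDim Y = 1) {U : Y.Opens} (hU : IsAffineOpen U) {y : Y}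
    (hy : y ∈ U) (hcl : IsClosed ({y} : Set Y)) : (hU.primeIdealOf ⟨y, hy⟩).asIdeal ≠ ⊥ := by
  intro h
  haveI : Nonempty U := ⟨⟨y, hy⟩⟩
  have hη : genericPoint Y ∈ U := (genericPoint_spec Y).specializes (Set.mem_univ y) |>.mem_open U.2 hy
  have h1 : hU.primeIdealOf ⟨y, hy⟩ = hU.primeIdealOf ⟨genericPoint Y, hη⟩ := by
    apply PrimeSpectrum.ext
    refine h.trans (bot_unique ?_).symm
    intro a ha
    letI : Algebra Γ(Y, U) Y.functionField := (Y.germToFunctionField U).hom.toAlgebra
    haveI : IsFractionRing Γ(Y, U) Y.functionField := functionField_isFractionRing_of_isAffineOpen Y U hU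
    letI : Algebra Γ(Y, U) (Y.presheaf.stalk (genericPoint Y)) :=
      TopCat.Presheaf.algebra_section_stalk Y.presheaf (⟨genericPoint Y, hη⟩ : U)
    haveI := hU.isLocalization_stalk ⟨genericPoint Y, hη⟩
    refine Ideal.mem_bot.2 (by_contra fun ha0 => ?_)
    have hu : IsUnit (algebraMap Γ(Y, U) (Y.presheaf.stalk (genericPoint Y)) a) := by
      have hne : Y.germToFunctionField U a ≠ 0 := fun h0 =>
        ha0 (IsFractionRing.injective Γ(Y, U) Y.functionField (h0.trans (map_zero _).symm))
      exact (isUnit_iff_ne_zero (G₀ := Y.functionField)).2 hne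
    exact (IsLocalization.AtPrime.isUnit_to_map_iff (Y.presheaf.stalk (genericPoint Y)) _ _).1 hu ha
  have h2 : y = genericPoint Y := by
    have h3 := congrArg hU.fromSpec h1
    rwa [hU.fromSpec_primeIdealOf, hU.fromSpec_primeIdealOf] at h3
  haveI : Subsingleton Y := ⟨fun a b => by
    have huniv : ∀ c : Y, c = y := fun c => by
      have hc : c ∈ closure ({genericPoint Y} : Set Y) := by rw [(genericPoint_spec Y).def]; trivial
      rw [← h2, hcl.closure_eq] at hc
      exact hc
    rw [huniv a, huniv b]⟩
  have := topologicalKrullDim_zero_of_discreteTopology Y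
  rw [hdY] at this
  exact absurd this (by norm_num)

/-- The exponents of the different: their weighted sum is the defect of the Euler characteristics. -/
theorem exists_exponents (hdX : topologicalKrullDim X ≤ 1) (hdY : topologicalKrullDim Y = 1)
    (hnX : ∀ x : X, IsIntegrallyClosed (X.presheaf.stalk x)) (hnY : ∀ y : Y, IsIntegrallyClosed (Y.presheaf.stalk y))
    (hf : f ≫ (Y ↘ Spec (CommRingCat.of k)) = X ↘ Spec (CommRingCat.of k))
    (hsep : letI := funAlg f e; Algebra.IsSeparable Y.functionField X.functionField) :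
    letI := funAlg f e
    ∃ d : X → ℕ, d.support.Finite ∧
      (∀ x, IsClosed ({x} : Set X) → (0 : ℕ) < Module.finrank k (X.residueField x)) ∧
      (∀ x, ¬ IsClosed ({x} : Set X) → d x = 0) ∧
      (∀ x, IsClosed ({x} : Set X) →
        (letI := (f.stalkMap x).hom.toAlgebra
         letI := (f.residueFieldMap x).hom.toAlgebra
         Ideal.ramificationIdx (IsLocalRing.maximalIdeal (X.presheaf.stalk x)) (Y.presheaf.stalk (f x)) - 1 ≤ d x ∧
          (d x = Ideal.ramificationIdx (IsLocalRing.maximalIdeal (X.presheaf.stalk x)) (Y.presheaf.stalk (f x)) - 1 ↔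
            Algebra.IsSeparable (Y.residueField (f x)) (X.residueField x) ∧
              ((Ideal.ramificationIdx (IsLocalRing.maximalIdeal (X.presheaf.stalk x)) (Y.presheaf.stalk (f x)) : ℕ) :
                Y.residueField (f x)) ≠ 0))) ∧
      2 * (Curv2.euler k X (Coh.structureModule X) -
          (Module.finrank Y.functionField X.functionField : ℤ) * Curv2.euler k Y (Coh.structureModule Y)) =
        - ∑ᶠ x : X, ((d x * Module.finrank k (X.residueField x) : ℕ) : ℤ) := by
  classical
  letI := funAlg f e
  haveI := H29RR.isNoetherian_of_proper (k := k) (X := Y)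
  haveI := H29RR.isNoetherian_of_proper (k := k) (X := X)
  haveI : JacobsonSpace Y := LocallyOfFiniteType.jacobsonSpace (Y ↘ Spec (CommRingCat.of k))
  haveI : Flat f := H29Curve.flat_of_dominant_normal f e hnY hdY.le
  obtain ⟨δ, hδ, hC, hfinS, hclS, hmain⟩ := exists_disc_coker f e hdY.le hf hsep
  have hE := rank_pushO f e hsep
  generalize Module.finrank Y.functionField X.functionField = n at δ hδ hC hfinS hclS hmain hE ⊢
  have hEq : Coh.IsQCoh (pushO f) :=
    H8Props.FinLocFree.isQCoh_of_isFinLocFree _ (fun y => let ⟨U, hU⟩ := hE y; ⟨U, n, hU⟩)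
  choose c hyc hiso using fun y => exists_isolated_frame f hE hδ hfinS hclS y
  let V : Y → X.Opens := fun y => f ⁻¹ᵁ (c y).U
  let P : ∀ x : X, Ideal Γ(X, V (f x)) := fun x =>
    (((c (f x)).hU.preimage f).primeIdealOf ⟨x, hyc (f x)⟩).asIdeal
  have hne : ∀ y : Y, Nonempty (c y).U ∧ Nonempty (V y) := fun y =>
    ⟨⟨⟨y, hyc y⟩⟩, nonempty_preimage f e _ ⟨y, hyc y⟩⟩
  have hDedY : ∀ y : Y, IsDedekindDomain Γ(Y, (c y).U) := fun y =>
    haveI := (hne y).1; isDedekindDomain_sections hdY.le hnY (c y).hU
  have hDedX : ∀ y : Y, IsDedekindDomain Γ(X, V y) := fun y =>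
    haveI := (hne y).2; isDedekindDomain_sections hdX hnX ((c y).hU.preimage f)
  let D : ∀ y : Y, Ideal Γ(X, V y) := fun y =>
    haveI := hDedY y
    haveI := hDedX y
    letI := alg f (c y).U
    haveI := (hne y).1
    haveI := (hne y).2
    haveI := (chart_facts f e hsep (c y).hU).choose_spec.choose
    differentIdeal Γ(Y, (c y).U) Γ(X, V y)
  let d : X → ℕ := fun x =>
    if IsClosed ({x} : Set X) then
      haveI := hDedX (f x); (normalizedFactors (D (f x))).count (P x)
    else 0
  have hclf : ∀ x : X, IsClosed ({x} : Set X) → IsClosed ({f x} : Set Y) := fun x hx => by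
    have h := f.isClosedMap _ hx
    rwa [Set.image_singleton] at h
  have hloc : ∀ x : X, IsClosed ({x} : Set X) →
      (letI := (f.stalkMap x).hom.toAlgebra
       letI := (f.residueFieldMap x).hom.toAlgebra
       (Ideal.ramificationIdx (IsLocalRing.maximalIdeal (X.presheaf.stalk x)) (Y.presheaf.stalk (f x)) - 1 ≤ d x ∧
          (d x = Ideal.ramificationIdx (IsLocalRing.maximalIdeal (X.presheaf.stalk x)) (Y.presheaf.stalk (f x)) - 1 ↔
            Algebra.IsSeparable (Y.residueField (f x)) (X.residueField x) ∧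
              ((Ideal.ramificationIdx (IsLocalRing.maximalIdeal (X.presheaf.stalk x)) (Y.presheaf.stalk (f x)) : ℕ) :
                Y.residueField (f x)) ≠ 0))) ∧
        0 < Module.finrank k (X.residueField x) := by
    intro x hx
    haveI := (hne (f x)).1
    haveI := (hne (f x)).2
    haveI := hDedY (f x)
    haveI := hDedX (f x)
    have hU := (c (f x)).hU
    letI := alg f (c (f x)).U
    letI := constAlg k (V (f x))
    haveI := finiteType_constAlg (k := k) (hU.preimage f)
    haveI hPm : (P x).IsMaximal := (hU.preimage f).primeIdealOf_isMaximal_of_isClosed ⟨x, hyc (f x)⟩ hx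
    haveI hpm : (hU.primeIdealOf ⟨f x, hyc (f x)⟩).asIdeal.IsMaximal :=
      hU.primeIdealOf_isMaximal_of_isClosed ⟨f x, hyc (f x)⟩ (hclf x hx)
    haveI := liesOver_prime f hU (hyc (f x))
    obtain ⟨hfin, htf, hs⟩ := chart_facts f e hsep hU
    have hd : d x = (normalizedFactors (D (f x))).count (P x) := if_pos hx
    obtain ⟨h1, h2⟩ := different_exponent Γ(Y, (c (f x)).U) Γ(X, V (f x)) _
      (closedPoint_prime_ne_bot hdY hU (hyc (f x)) (hclf x hx)) (P x)
    obtain ⟨hs1, hs2⟩ := isSeparable_chart f hU (hyc (f x))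
    rw [hd, ← ramificationIdx_chart f hU (hyc (f x))]
    refine ⟨⟨h1, h2.trans (and_congr hs1 (hs2 _))⟩, ?_⟩
    obtain ⟨E, -⟩ := exists_residueEquiv (k := k) (hU.preimage f) (hyc (f x)) hx
    haveI := finite_quotient_maximal (k := k) (P x)
    rw [← E.toLinearEquiv.finrank_eq]
    letI := Ideal.Quotient.field (P x)
    exact Module.finrank_pos
  -- the fibre over a closed point
  have hfib : ∀ y : Y, IsClosed ({y} : Set Y) →
      (Module.finrank k (H25Par.Stk k (cokernel δ) y) : ℕ) =
        ∑ x ∈ (f.finite_preimage_singleton y).toFinset, d x * Module.finrank k (X.residueField x) := by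
    intro y hy
    haveI := (hne y).1
    haveI := (hne y).2
    haveI := hDedY y
    haveI := hDedX y
    have hU := (c y).hU
    letI := alg f (c y).U
    letI := constAlg k (c y).U
    letI := constAlg k (V y)
    haveI : IsScalarTower k Γ(Y, (c y).U) Γ(X, V y) := const_compat f hf (c y).U
    haveI := finiteType_constAlg (k := k) hU
    haveI := finiteType_constAlg (k := k) (hU.preimage f)
    haveI hpm : (hU.primeIdealOf ⟨y, hyc y⟩).asIdeal.IsMaximal :=
      hU.primeIdealOf_isMaximal_of_isClosed ⟨y, hyc y⟩ hy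
    obtain ⟨hfin, htf, hs⟩ := chart_facts f e hsep hU
    rw [finrank_stk f hEq (c y) (hδ _) (hyc y) (hiso y)]
    show Module.finrank k (Γ(Y, (c y).U) ⧸ Ideal.span {Algebra.discr Γ(Y, (c y).U) (fnBasis (c y).b)}) = _
    rw [finrank_discr_eq (fnBasis (c y).b) _ (hiso y), finrank_quot_eq_sum _ differentIdeal_ne_bot]
    have hmemD : ∀ Q ∈ (normalizedFactors (D y)).toFinset,
        Q.IsMaximal ∧ Q.comap (algebraMap Γ(Y, (c y).U) Γ(X, V y)) = (hU.primeIdealOf ⟨y, hyc y⟩).asIdeal := by
      intro Q hQ
      have hQ' := Multiset.mem_toFinset.1 hQ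
      have hp := prime_of_normalized_factor Q hQ'
      haveI := (Ideal.isPrime_of_prime hp).isMaximal hp.ne_zero
      haveI : (Q.comap (algebraMap Γ(Y, (c y).U) Γ(X, V y))).IsMaximal := by
        haveI : Algebra.IsIntegral Γ(Y, (c y).U) Γ(X, V y) := Algebra.IsIntegral.of_finite _ _
        exact Ideal.isMaximal_comap_of_isIntegral_of_isMaximal Q
      refine ⟨inferInstance, hiso y _ inferInstance (Ideal.mem_comap.2 ?_)⟩
      exact Ideal.dvd_iff_le.1 (dvd_of_mem_normalizedFactors hQ') (discr_facts (fnBasis (c y).b)).1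
    have hxU : ∀ x : X, f x = y → x ∈ V y := fun x hx => by
      show f x ∈ (c y).U
      rw [hx]
      exact hyc y
    have hclx : ∀ x : X, f x = y → IsClosed ({x} : Set X) := fun x hx => isClosed_of_map f (hx ▸ hy)
    let toP : X → Ideal Γ(X, V y) := fun x =>
      if hx : x ∈ V y then ((hU.preimage f).primeIdealOf ⟨x, hx⟩).asIdeal else ⊥
    have htoP : ∀ x (hx : f x = y), toP x = ((hU.preimage f).primeIdealOf ⟨x, hxU x hx⟩).asIdeal :=
      fun x hx => dif_pos (hxU x hx)
    have hcast : ∀ x, f x = y →
        d x * Module.finrank k (X.residueField x) =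
          (normalizedFactors (D y)).count (toP x) * Module.finrank k (Γ(X, V y) ⧸ toP x) := by
      intro x hx
      rw [htoP x hx]
      obtain ⟨E, -⟩ := exists_residueEquiv (k := k) (hU.preimage f) (hxU x hx) (hclx x hx)
      rw [E.toLinearEquiv.finrank_eq]
      refine congrArg (· * _) ?_
      have key : ∀ (y' : Y) (hd' : IsDedekindDomain Γ(X, V y')) (hy' : f x = y') (hx' : x ∈ V y'),
          d x = (normalizedFactors (D y')).count (((c y').hU.preimage f).primeIdealOf ⟨x, hx'⟩).asIdeal := by
        rintro y' hd' rfl hx'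
        exact if_pos (hclx x hx)
      exact key y (hDedX y) hx (hxU x hx)
    let T := (f.finite_preimage_singleton y).toFinset
    have hT : ∀ x, x ∈ T ↔ f x = y := fun x => Set.Finite.mem_toFinset _
    rw [Finset.sum_congr rfl fun x hx => hcast x ((hT x).1 hx)]
    refine (Finset.sum_bij_ne_zero (fun x _ _ => toP x) ?_ ?_ ?_ fun _ _ _ => rfl).symm
    · intro x _ hx0
      rw [Multiset.mem_toFinset, ← Multiset.count_pos]
      exact Nat.pos_of_ne_zero (left_ne_zero_of_mul hx0)
    · intro x hx _ x' hx' _ hxx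
      rw [htoP x ((hT x).1 hx), htoP x' ((hT x').1 hx')] at hxx
      have := congrArg (hU.preimage f).fromSpec (PrimeSpectrum.ext hxx)
      rwa [IsAffineOpen.fromSpec_primeIdealOf, IsAffineOpen.fromSpec_primeIdealOf] at this
    · intro Q hQ hQ0
      obtain ⟨hQm, hQp⟩ := hmemD Q hQ
      let x : X := (hU.preimage f).fromSpec ⟨Q, hQm.isPrime⟩
      have hx : x ∈ V y := (hU.preimage f).range_fromSpec.le (Set.mem_range_self _)
      have hxq : (hU.preimage f).primeIdealOf ⟨x, hx⟩ = ⟨Q, hQm.isPrime⟩ :=
        (hU.preimage f).fromSpec.isOpenEmbedding.injective ((hU.preimage f).fromSpec_primeIdealOf ⟨x, hx⟩)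
      have hfx : f x = y := by
        have h1 : hU.primeIdealOf ⟨f x, hx⟩ = hU.primeIdealOf ⟨y, hyc y⟩ := by
          apply PrimeSpectrum.ext
          rw [← hQp, (liesOver_prime f hU hx).over]
          exact congrArg (fun J => J.comap (algebraMap Γ(Y, (c y).U) Γ(X, V y))) (congrArg PrimeSpectrum.asIdeal hxq)
        have h2 := congrArg hU.fromSpec h1
        rwa [IsAffineOpen.fromSpec_primeIdealOf, IsAffineOpen.fromSpec_primeIdealOf] at h2
      have hQx : toP x = Q := (htoP x hfx).trans (congrArg PrimeSpectrum.asIdeal hxq)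
      exact ⟨x, (hT x).2 hfx, by rw [hQx]; exact hQ0, hQx⟩
  have hzero : ∀ x, f x ∉ CohB1.support (cokernel δ) → d x = 0 := by
    intro x hx
    by_cases hxc : IsClosed ({x} : Set X)
    · have h := hfib (f x) (hclf x hxc)
      haveI : Subsingleton (H25Par.Stk k (cokernel δ) (f x)) := not_not.1 hx
      rw [Module.finrank_zero_of_subsingleton, eq_comm, Finset.sum_eq_zero_iff] at h
      exact (mul_eq_zero.1 (h x ((f.finite_preimage_singleton _).mem_toFinset.2 rfl))).resolve_right
        (hloc x hxc).2.ne'
    · exact if_neg hxc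
  have hsupp : d.support ⊆ f ⁻¹' CohB1.support (cokernel δ) := fun x hx => by
    by_contra h
    exact hx (hzero x h)
  have hfinpre : (f ⁻¹' CohB1.support (cokernel δ)).Finite := f.finite_preimage hfinS
  refine ⟨d, hfinpre.subset hsupp, fun x hx => (hloc x hx).2, fun x hx => if_neg hx,
    fun x hx => (hloc x hx).1, hmain.trans (congrArg Neg.neg ?_)⟩
  haveI : Module.Finite k (Coh.HH Y (cokernel δ) 0) := H10Coh.finite_HH_proper k Y _ hC 0
  let eG := LinearEquiv.ofBijective _
    (H25Par.germs_bijective (k := k) (cokernel δ) hfinS hclS fun y hy => not_not.1 hy)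
  haveI : Fintype (CohB1.support (cokernel δ)) := hfinS.fintype
  haveI : Module.Finite k (∀ y : CohB1.support (cokernel δ), H25Par.Stk k (cokernel δ) y.1) := Module.Finite.equiv eG
  haveI : ∀ y : CohB1.support (cokernel δ), Module.Finite k (H25Par.Stk k (cokernel δ) y.1) := fun y =>
    Module.Finite.of_surjective (LinearMap.proj (R := k)
      (φ := fun y : CohB1.support (cokernel δ) => H25Par.Stk k (cokernel δ) y.1) y)
      (Function.surjective_eval y)
  rw [eG.finrank_eq, Module.finrank_pi_fintype, Finset.sum_set_coe (f := fun y => Module.finrank k (H25Par.Stk k (cokernel δ) y)),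
    Finset.sum_congr (by simp : (CohB1.support (cokernel δ)).toFinset = hfinS.toFinset)
      (fun y hy => hfib y (hclS y (hfinS.mem_toFinset.1 hy))),
    ← Finset.sum_biUnion (fun y _ y' _ hne => Finset.disjoint_left.2 fun x hx hx' => hne
      (((f.finite_preimage_singleton y).mem_toFinset.1 hx).symm.trans
        ((f.finite_preimage_singleton y').mem_toFinset.1 hx'))), Nat.cast_sum]
  refine (finsum_eq_sum_of_support_subset _ fun x hx => ?_).symm
  rw [Finset.coe_biUnion]
  simp only [Set.mem_iUnion, Finset.mem_coe, Set.Finite.mem_toFinset]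
  refine ⟨f x, hsupp fun h0 => hx ?_, rfl⟩
  simp [h0]

end Groth.Agent.H29Disc
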