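import Groth.Agent.H29Disc.Charts
import Groth.Agent.H7Lim.Birational
import Groth.Agent.H06EGA9.StructureStalk
import Groth.Agent.H06Mod.StalkExact
import Groth.Agent.H29RR.EvalPoint

/-!
# The stalks of the cokernel of the discriminant
-/

set_option autoImplicit false
set_option linter.style.haveILetI false

universe u

open CategoryTheory CategoryTheory.Limits AlgebraicGeometry TopologicalSpace Opposite
open Groth.Agent.H11Ample Groth.Agent.H11Tilde IsLocalRing

noncomputable section

namespace Groth.Agent.H29Disc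

attribute [local instance] FractionRing.liftAlgebra FractionRing.isScalarTower_liftAlgebra

variable {X Y : Scheme.{u}}

theorem isDedekindDomain_sections [IsIntegral X] [IsLocallyNoetherian X] (hdim : topologicalKrullDim X ≤ 1)
    (hN : ∀ x : X, IsIntegrallyClosed (X.presheaf.stalk x)) {U : X.Opens} (hU : IsAffineOpen U) [Nonempty U] :
    IsDedekindDomain Γ(X, U) := by
  haveI := H7Lim.isIntegrallyClosed_section hN hU
  haveI : IsNoetherianRing Γ(X, U) := IsLocallyNoetherian.component_noetherian ⟨U, hU⟩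
  haveI : Ring.KrullDimLE 1 Γ(X, U) := Ring.krullDimLE_iff.2 (by
    have h1 : topologicalKrullDim U ≤ topologicalKrullDim X :=
      (Topology.IsInducing.subtypeVal).topologicalKrullDim_le
    rw [← PrimeSpectrum.topologicalKrullDim_eq_ringKrullDim]
    refine le_trans (le_of_eq ?_) (h1.trans hdim)
    exact (IsHomeomorph.topologicalKrullDim_eq _ hU.isoSpec.inv.homeomorph.isHomeomorph))
  haveI : Ring.DimensionLEOne Γ(X, U) :=
    ⟨fun hp hprime => Ring.krullDimLE_one_iff_of_noZeroDivisors.mp ‹_› _ hp hprime⟩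
  exact { }

variable (f : X ⟶ Y) [IsIntegral X] [IsIntegral Y] [IsFinite f] (e : f (genericPoint X) = genericPoint Y)

/-- The algebraic hypotheses in a chart. -/
theorem chart_facts (hsep : letI := funAlg f e; Algebra.IsSeparable Y.functionField X.functionField)
    {U : Y.Opens} (hU : IsAffineOpen U) [Nonempty U] [Nonempty (f ⁻¹ᵁ U : X.Opens)] :
    letI := alg f U
    ∃ (_ : Module.Finite Γ(Y, U) Γ(X, f ⁻¹ᵁ U)) (_ : Module.IsTorsionFree Γ(Y, U) Γ(X, f ⁻¹ᵁ U)),
      Algebra.IsSeparable (FractionRing Γ(Y, U)) (FractionRing Γ(X, f ⁻¹ᵁ U)) := by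
  let A := Γ(Y, U)
  let B := Γ(X, f ⁻¹ᵁ U)
  let K := Y.functionField
  let L := X.functionField
  letI := funAlg f e
  letI := alg f U
  haveI : Algebra.IsSeparable K L := hsep
  letI : Algebra A L := ((Y.germToFunctionField U).hom |> (algebraMap K L).comp).toAlgebra
  haveI : IsScalarTower A K L := .of_algebraMap_eq fun _ => rfl
  haveI : IsScalarTower A B L := .of_algebraMap_eq fun r => funAlg_germ f e U r
  haveI : IsFractionRing A K := functionField_isFractionRing_of_isAffineOpen Y U hU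
  haveI : IsFractionRing B L := functionField_isFractionRing_of_isAffineOpen X (f ⁻¹ᵁ U) (hU.preimage f)
  haveI hfin : Module.Finite A B := IsFinite.finite_app (f := f) U hU
  haveI : FaithfulSMul A B := by
    refine (faithfulSMul_iff_algebraMap_injective A B).2 fun a a' h => ?_
    have h' : algebraMap A L a = algebraMap A L a' := by
      rw [IsScalarTower.algebraMap_apply A B L, h, ← IsScalarTower.algebraMap_apply A B L]
    exact IsFractionRing.injective A K ((algebraMap K L).injective h')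
  haveI htf : Module.IsTorsionFree A B := inferInstance
  refine ⟨hfin, htf, ?_⟩
  have H : RingHom.comp (algebraMap (FractionRing A) (FractionRing B))
      ↑(FractionRing.algEquiv A K).symm.toRingEquiv =
        RingHom.comp ↑(FractionRing.algEquiv B L).symm.toRingEquiv (algebraMap K L) := by
    apply IsLocalization.ringHom_ext (nonZeroDivisors A)
    ext
    simp only [RingHom.coe_comp, RingHom.coe_coe,
      AlgEquiv.coe_ringEquiv, Function.comp_apply, AlgEquiv.commutes,
      ← IsScalarTower.algebraMap_apply]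
    rw [IsScalarTower.algebraMap_apply A B L, AlgEquiv.commutes, ← IsScalarTower.algebraMap_apply]
  exact Algebra.IsSeparable.of_equiv_equiv _ _ H

omit [IsIntegral X] [IsIntegral Y] [IsFinite f] in
/-- The stalk of the cokernel of the discriminant at a point of a frame. -/
theorem coker_stalk {n : ℕ} (hEq : Coh.IsQCoh (pushO f)) {δ : CohB1.tensorMod (detO f n) (detO f n) ⟶ Coh.structureModule Y}
    (c : Frame f n) (hδ : δ.app c.U (tm (omega c.b) (omega c.b)) = disc c.b) {z : Y} (hz : z ∈ c.U) :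
    ∃ ψ : Y.presheaf.stalk z →ₗ[Y.presheaf.stalk z] (cokernel δ).presheaf.stalk z,
      Function.Surjective ψ ∧ LinearMap.ker ψ = Ideal.span {Y.presheaf.germ c.U z hz (disc c.b)} := by
  let e1 : Y.presheaf.stalk z ≃ₗ[Y.presheaf.stalk z] (Coh.structureModule Y).presheaf.stalk z :=
    LinearEquiv.ofBijective (LinearMap.toSpanSingleton _ _ (H06EGA9.oneStalk z))
      (H06EGA9.bijective_smul_oneStalk z)
  let π := H06Mod.stalkLin (cokernel.π δ) z
  have hπ : Function.Surjective π :=
    (ModuleCat.epi_iff_surjective _).1 (inferInstance : Epi ((DerSch.stalkFunctor Y z).map (cokernel.π δ)))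
  refine ⟨π ∘ₗ e1.toLinearMap, hπ.comp e1.surjective, ?_⟩
  let g := (CohB1.tensorMod (detO f n) (detO f n)).presheaf.germ c.U z hz (tm (omega c.b) (omega c.b))
  have hg : Function.Bijective fun r : Y.presheaf.stalk z => r • g :=
    isGen_tm (isGen_omega hEq c.hU c.b) (isGen_omega hEq c.hU c.b) z hz
  have himg : H06Mod.stalkLin δ z g = e1 (Y.presheaf.germ c.U z hz (disc c.b)) := by
    rw [H06Mod.stalkLin_germ, hδ]
    exact (H06EGA9.smul_oneStalk z c.U hz _).symm
  ext r
  rw [LinearMap.mem_ker]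
  show π (e1 r) = 0 ↔ _
  rw [Ideal.mem_span_singleton']
  constructor
  · intro hr
    have hT : ((ShortComplex.mk δ (cokernel.π δ) (cokernel.condition _)).map (DerSch.stalkFunctor Y z)).Exact :=
      (ShortComplex.exact_cokernel δ).map _
    obtain ⟨w, hw⟩ := (ShortComplex.moduleCat_exact_iff _).1 hT (e1 r) hr
    obtain ⟨a, rfl⟩ := hg.2 w
    refine ⟨a, e1.injective ?_⟩
    rw [← smul_eq_mul, map_smul, ← himg, ← map_smul]
    exact hw
  · rintro ⟨a, rfl⟩
    rw [← smul_eq_mul, map_smul, ← himg, ← map_smul]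
    show π (H06Mod.stalkLin δ z _) = 0
    rw [← H29RR.stalkLin_comp]
    show ((DerSch.stalkFunctor Y z).map (δ ≫ cokernel.π δ)).hom _ = 0
    rw [cokernel.condition, Functor.map_zero]
    rfl

variable {k : Type u} [Field k] [Y.Over (Spec (CommRingCat.of k))]

omit [IsIntegral X] [IsIntegral Y] [IsFinite f] in
/-- The dimension of the stalk of the cokernel in an isolating chart. -/
theorem finrank_stk {n : ℕ} (hEq : Coh.IsQCoh (pushO f)) {δ : CohB1.tensorMod (detO f n) (detO f n) ⟶ Coh.structureModule Y}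
    (c : Frame f n) (hδ : δ.app c.U (tm (omega c.b) (omega c.b)) = disc c.b) {y : Y} (hy : y ∈ c.U)
    (hiso : ∀ q : Ideal Γ(Y, c.U), q.IsMaximal → disc c.b ∈ q → q = (c.hU.primeIdealOf ⟨y, hy⟩).asIdeal) :
    letI := constAlg k c.U
    Module.finrank k (H25Par.Stk k (cokernel δ) y) = Module.finrank k (Γ(Y, c.U) ⧸ Ideal.span {disc c.b}) := by
  letI := constAlg k c.U
  obtain ⟨ψ, hψ, hker⟩ := coker_stalk f hEq c hδ hy
  let A := Γ(Y, c.U)
  let p := (c.hU.primeIdealOf ⟨y, hy⟩).asIdeal
  letI : Algebra A (Y.presheaf.stalk y) := TopCat.Presheaf.algebra_section_stalk Y.presheaf (⟨y, hy⟩ : c.U)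
  haveI : IsLocalization.AtPrime (Y.presheaf.stalk y) p := c.hU.isLocalization_stalk ⟨y, hy⟩
  have hinv : ∀ s : A, s ∉ p → ∃ t, t * s - 1 ∈ Ideal.span {disc c.b} := by
    intro s hs
    by_cases htop : Ideal.span {disc c.b} ⊔ Ideal.span {s} = ⊤
    · obtain ⟨a, ha, b', hb, hab⟩ := Submodule.mem_sup.1 ((Ideal.eq_top_iff_one _).1 htop)
      obtain ⟨t, rfl⟩ := Ideal.mem_span_singleton'.1 hb
      exact ⟨t, by rw [← hab]; simpa using ha⟩
    · obtain ⟨q, hq, hle⟩ := Ideal.exists_le_maximal _ htop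
      exact absurd ((hiso q hq (hle (Ideal.mem_sup_left (Ideal.mem_span_singleton_self _)))).le
        (hle (Ideal.mem_sup_right (Ideal.mem_span_singleton_self s)))) hs
  let φ : A →ₗ[k] H25Par.Stk k (cokernel δ) y :=
    { toFun := fun r => ψ (Y.presheaf.germ c.U y hy r)
      map_add' := fun r r' => by rw [map_add, map_add]; rfl
      map_smul' := fun a r => by
        show ψ (Y.presheaf.germ c.U y hy (algebraMap k A a * r)) = _
        rw [map_mul, germ_const, ← smul_eq_mul, map_smul]
        rfl }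
  have hsurj : Function.Surjective φ := fun w => by
    obtain ⟨v, rfl⟩ := hψ w
    obtain ⟨⟨r, s⟩, hrs⟩ := IsLocalization.surj p.primeCompl v
    obtain ⟨t, ht⟩ := hinv s.1 s.2
    refine ⟨t * r, ?_⟩
    obtain ⟨m, hm⟩ := Ideal.mem_span_singleton'.1 ht
    have hmem : Y.presheaf.germ c.U y hy (t * r) - v ∈ LinearMap.ker ψ := by
      rw [hker, Ideal.mem_span_singleton']
      refine ⟨Y.presheaf.germ c.U y hy m * v, ?_⟩
      have hm' := congrArg (algebraMap A (Y.presheaf.stalk y)) hm
      have hrs' : v * Y.presheaf.germ c.U y hy s.1 = Y.presheaf.germ c.U y hy r := hrs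
      change Y.presheaf.germ c.U y hy (m * disc c.b) = Y.presheaf.germ c.U y hy (t * s.1 - 1) at hm'
      simp only [map_mul, map_sub, map_one] at hm' ⊢
      linear_combination v * hm' + (Y.presheaf.germ c.U y hy t) * hrs'
    have h := LinearMap.mem_ker.1 hmem
    rw [map_sub, sub_eq_zero] at h
    exact h
  have hk : LinearMap.ker φ = (Ideal.span {disc c.b}).restrictScalars k := by
    ext r
    rw [LinearMap.mem_ker, Submodule.restrictScalars_mem]
    show ψ (Y.presheaf.germ c.U y hy r) = 0 ↔ _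
    rw [← LinearMap.mem_ker, hker]
    constructor
    · intro hr
      have hr' : algebraMap A (Y.presheaf.stalk y) r ∈ (Ideal.span {disc c.b}).map (algebraMap A (Y.presheaf.stalk y)) := by
        rw [Ideal.map_span, Set.image_singleton]
        exact hr
      obtain ⟨⟨a, s⟩, has⟩ := (IsLocalization.mem_map_algebraMap_iff p.primeCompl _).1 hr'
      rw [← map_mul] at has
      obtain ⟨u', hu'⟩ := (IsLocalization.eq_iff_exists p.primeCompl (Y.presheaf.stalk y)).1 has
      obtain ⟨t, ht⟩ := hinv ((u' : A) * (s : A)) (p.primeCompl.mul_mem u'.2 s.2)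
      have h1 : r = t * ((u' : A) * (a : A)) - (t * ((u' : A) * (s : A)) - 1) * r := by
        rw [← hu']; ring
      rw [h1]
      exact Ideal.sub_mem _ (Ideal.mul_mem_left _ _ (Ideal.mul_mem_left _ _ a.2)) (Ideal.mul_mem_right _ _ ht)
    · intro hr
      obtain ⟨a, rfl⟩ := Ideal.mem_span_singleton'.1 hr
      rw [map_mul]
      exact Ideal.mul_mem_left _ _ (Ideal.mem_span_singleton_self _)
  exact (((Submodule.Quotient.restrictScalarsEquiv k (Ideal.span {disc c.b})).symm ≪≫ₗ
    Submodule.quotEquivOfEq _ _ hk.symm ≪≫ₗ φ.quotKerEquivOfSurjective hsurj).finrank_eq).symm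

omit [Y.Over (Spec (CommRingCat.of k))] [IsIntegral X] [IsIntegral Y] [IsFinite f] in
/-- A frame around a closed point in which only that point can carry the discriminant. -/
theorem exists_isolated_frame {n : ℕ} (hE : FlatMod.IsFinLocFreeOfRank n (pushO f))
    {δ : CohB1.tensorMod (detO f n) (detO f n) ⟶ Coh.structureModule Y}
    (hδ : ∀ c : Frame f n, δ.app c.U (tm (omega c.b) (omega c.b)) = disc c.b)
    (hfin : (CohB1.support (cokernel δ)).Finite)
    (hcl : ∀ z ∈ CohB1.support (cokernel δ), IsClosed ({z} : Set Y)) (y : Y) :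
    ∃ (c : Frame f n) (hy : y ∈ c.U), ∀ q : Ideal Γ(Y, c.U), q.IsMaximal → disc c.b ∈ q →
      q = (c.hU.primeIdealOf ⟨y, hy⟩).asIdeal := by
  have hEq : Coh.IsQCoh (pushO f) :=
    H8Props.FinLocFree.isQCoh_of_isFinLocFree _ (fun y => let ⟨U, hU⟩ := hE y; ⟨U, n, hU⟩)
  obtain ⟨V, hyV, ⟨φ⟩⟩ := hE y
  let W : Y.Opens := ⟨(CohB1.support (cokernel δ) \ {y})ᶜ, (IsClosed.isOpen_compl (self := by
    rw [← Set.biUnion_of_singleton (CohB1.support (cokernel δ) \ {y})]
    exact (hfin.subset Set.sdiff_subset).isClosed_biUnion fun z hz => hcl z hz.1))⟩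
  obtain ⟨U, hU, hyU, hle⟩ := exists_isAffineOpen_mem_and_subset (x := y) (U := V ⊓ W)
    ⟨hyV, fun h => h.2 rfl⟩
  obtain ⟨b⟩ := H8Props.FinLocFree.exists_basis_of_chart (pushO f) φ (hle.trans inf_le_left)
  refine ⟨⟨U, hU, b⟩, hyU, fun q hq hmem => ?_⟩
  let z : Y := hU.fromSpec ⟨q, hq.isPrime⟩
  have hzU : z ∈ U := hU.range_fromSpec.le (Set.mem_range_self _)
  have hzq : hU.primeIdealOf ⟨z, hzU⟩ = ⟨q, hq.isPrime⟩ :=
    hU.fromSpec.isOpenEmbedding.injective (hU.fromSpec_primeIdealOf ⟨z, hzU⟩)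
  by_cases hzy : z = y
  · subst hzy
    exact (congrArg PrimeSpectrum.asIdeal hzq).symm
  exfalso
  have hzS : z ∉ CohB1.support (cokernel δ) := fun h => (hle hzU).2 ⟨h, hzy⟩
  obtain ⟨ψ, hψ, hker⟩ := coker_stalk f hEq ⟨U, hU, b⟩ (hδ _) hzU
  haveI : Subsingleton ((cokernel δ).presheaf.stalk z) := not_not.1 hzS
  have hu : IsUnit (Y.presheaf.germ U z hzU (disc b)) := by
    rw [← Ideal.span_singleton_eq_top, ← hker, LinearMap.ker_eq_top]
    exact LinearMap.ext fun _ => Subsingleton.elim _ _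
  letI : Algebra Γ(Y, U) (Y.presheaf.stalk z) := TopCat.Presheaf.algebra_section_stalk Y.presheaf (⟨z, hzU⟩ : U)
  haveI : IsLocalization.AtPrime (Y.presheaf.stalk z) (hU.primeIdealOf ⟨z, hzU⟩).asIdeal :=
    hU.isLocalization_stalk ⟨z, hzU⟩
  exact (IsLocalization.AtPrime.isUnit_to_map_iff (Y.presheaf.stalk z) _ _).1 hu
    ((congrArg PrimeSpectrum.asIdeal hzq).ge hmem)

end Groth.Agent.H29Disc
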