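import Groth.Agent.H22Alg.DetLengthGeneral
import Mathlib.RingTheory.DedekindDomain.Different
import Mathlib.RingTheory.DedekindDomain.Factorization
import Mathlib.RingTheory.Discriminant
import Mathlib.RingTheory.LocalRing.Length
import Mathlib.RingTheory.Localization.NormTrace

/-!
# The different ideal has the length of the discriminant
-/

set_option autoImplicit false
set_option linter.style.haveILetI false

universe u

open nonZeroDivisors Matrix

noncomputable section

namespace Groth.Agent.H29Disc

attribute [local instance] FractionRing.liftAlgebra FractionRing.isScalarTower_liftAlgebra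

variable {A B : Type u} [CommRing A] [IsDedekindDomain A] [CommRing B] [IsDedekindDomain B] [Algebra A B]
  [Module.Finite A B] [Module.IsTorsionFree A B] [Algebra.IsSeparable (FractionRing A) (FractionRing B)]

/-- The discriminant lies in the different and its length is that of the quotient by the different. -/
theorem discr_facts {n : ℕ} (b : Module.Basis (Fin n) A B) :
    algebraMap A B (Algebra.discr A b) ∈ differentIdeal A B ∧
      Module.length A (B ⧸ differentIdeal A B) = Module.length A (A ⧸ Ideal.span {Algebra.discr A b}) := by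
  classical
  let K := FractionRing A
  let L := FractionRing B
  haveI : IsLocalization (Algebra.algebraMapSubmonoid B A⁰) L := IsIntegralClosure.isLocalization _ K _ _
  haveI : FiniteDimensional K L := .of_isLocalization A B A⁰
  let bK : Module.Basis (Fin n) K L := b.localizationLocalization K A⁰ L
  have hbK : ∀ i, bK i = algebraMap B L (b i) := fun i => Module.Basis.localizationLocalization_apply _ _ _ _ i
  let T : Matrix (Fin n) (Fin n) A := Algebra.traceMatrix A b
  have hd : algebraMap A K (Algebra.discr A b) ≠ 0 := by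
    rw [← Algebra.discr_localizationLocalization A A⁰ L b]
    exact Algebra.discr_not_zero_of_basis K bK
  let I : FractionalIdeal B⁰ L := FractionalIdeal.dual A K (1 : FractionalIdeal B⁰ L)
  let N : Submodule A L := (I : Submodule B L).restrictScalars A
  have hspan : N = Submodule.span A (Set.range bK.traceDual) := by
    show ((FractionalIdeal.dual A K (1 : FractionalIdeal B⁰ L) : Submodule B L)).restrictScalars A = _
    rw [FractionalIdeal.coe_dual_one]
    refine Submodule.traceDual_span_of_basis A 1 bK ?_
    refine le_antisymm (fun z hz => ?_) (Submodule.span_le.2 ?_)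
    · obtain ⟨x, rfl⟩ := Submodule.mem_one.1 hz
      rw [← b.sum_repr x, map_sum]
      refine Submodule.sum_mem _ fun i _ => ?_
      rw [Algebra.smul_def, map_mul, ← IsScalarTower.algebraMap_apply A B L, ← Algebra.smul_def, ← hbK]
      exact Submodule.smul_mem _ _ (Submodule.subset_span ⟨i, rfl⟩)
    · rintro _ ⟨i, rfl⟩
      exact Submodule.mem_one.2 ⟨b i, (hbK i).symm⟩
  -- coordinates of elements of the dual
  have hcoord : ∀ z : N, ∀ i, ∃ a : A, algebraMap A K a = Algebra.trace K L ((z : L) * bK i) := fun z i => by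
    have hz : (z : L) ∈ Submodule.traceDual A K (1 : Submodule B L) :=
      FractionalIdeal.coe_dual_one A K L B ▸ z.2
    obtain ⟨a, ha⟩ := (Submodule.mem_traceDual.1 hz) (bK i) (Submodule.mem_one.2 ⟨b i, (hbK i).symm⟩)
    exact ⟨a, by rw [ha, Algebra.traceForm_apply]⟩
  choose c hc using hcoord
  have hinjA : Function.Injective (algebraMap A K) := IsFractionRing.injective A K
  let Φ : N →ₗ[A] (Fin n → A) :=
    { toFun := fun z i => c z i
      map_add' := fun z w => funext fun i => hinjA (by
        rw [Pi.add_apply, map_add, hc, hc, hc, Submodule.coe_add, add_mul, map_add])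
      map_smul' := fun r z => funext fun i => hinjA (by
        rw [Pi.smul_apply, smul_eq_mul, map_mul, hc, hc, Submodule.coe_smul, RingHom.id_apply, smul_mul_assoc,
          ← algebraMap_smul K r ((z : L) * bK i), map_smul, smul_eq_mul]) }
  have hΦ : ∀ z i, algebraMap A K (Φ z i) = Algebra.trace K L ((z : L) * bK i) := hc
  have hsurj : Function.Surjective Φ := fun v => by
    let z : N := ⟨∑ i, v i • bK.traceDual i, by
      rw [hspan]; exact Submodule.sum_mem _ fun i _ => Submodule.smul_mem _ _ (Submodule.subset_span ⟨i, rfl⟩)⟩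
    refine ⟨z, funext fun j => hinjA ?_⟩
    rw [hΦ]
    show Algebra.trace K L ((∑ i, v i • bK.traceDual i) * bK j) = _
    rw [Finset.sum_mul, map_sum, Finset.sum_eq_single j]
    · rw [smul_mul_assoc, ← algebraMap_smul K (v j), map_smul, smul_eq_mul, Module.Basis.trace_traceDual_mul,
        if_pos rfl, mul_one]
    · intro i _ hij
      rw [smul_mul_assoc, ← algebraMap_smul K (v i), map_smul, smul_eq_mul, Module.Basis.trace_traceDual_mul,
        if_neg (Ne.symm hij), mul_zero]
    · simp
  have hinj : Function.Injective Φ := by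
    intro z w h
    refine Subtype.ext (bK.traceDual.ext_elem fun i => ?_)
    rw [Module.Basis.traceDual_repr_apply, Module.Basis.traceDual_repr_apply, Algebra.traceForm_apply,
      Algebra.traceForm_apply, ← hΦ, ← hΦ, h]
  let ι : B →ₗ[A] N :=
    { toFun := fun x => ⟨algebraMap B L x, FractionalIdeal.one_le_dual_one A K (L := L) (B := B)
        ((FractionalIdeal.mem_one_iff _).2 ⟨x, rfl⟩)⟩
      map_add' := fun x y => Subtype.ext (map_add _ _ _)
      map_smul' := fun r x => Subtype.ext (by
        show algebraMap B L (r • x) = r • algebraMap B L x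
        rw [Algebra.smul_def, Algebra.smul_def, map_mul, ← IsScalarTower.algebraMap_apply]) }
  have hΦι : ∀ x, Φ (ι x) = T *ᵥ (fun j => b.repr x j) := fun x => funext fun i => hinjA (by
    rw [hΦ]
    show Algebra.trace K L (algebraMap B L x * bK i) = _
    rw [hbK, ← map_mul, ← Algebra.algebraMap_intTrace (A := A),
      show Algebra.intTrace A B = Algebra.trace A B from
        haveI := Module.Free.of_basis b; Algebra.intTrace_eq_trace A B]
    refine congrArg _ ?_
    conv_lhs => rw [← b.sum_repr x, Finset.sum_mul, map_sum]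
    rw [Matrix.mulVec, dotProduct]
    refine Finset.sum_congr rfl fun j _ => ?_
    rw [smul_mul_assoc, map_smul, smul_eq_mul,
      show T i j = Algebra.trace A B (b i * b j) from rfl,
      mul_comm (b j) (b i), mul_comm])
  have hrange : (LinearMap.range ι).map Φ = LinearMap.range T.mulVecLin := by
    ext v
    constructor
    · rintro ⟨_, ⟨x, rfl⟩, rfl⟩
      exact ⟨_, (hΦι x).symm⟩
    · rintro ⟨u, rfl⟩
      refine ⟨_, ⟨∑ j, u j • b j, rfl⟩, ?_⟩
      rw [hΦι, Matrix.mulVecLin_apply]
      refine congrArg (T *ᵥ ·) (funext fun j => ?_)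
      exact congrFun (b.repr_sum_self u) j
  -- the discriminant kills the quotient
  have hkill : ∀ z : N, Algebra.discr A b • z ∈ LinearMap.range ι := fun z => by
    have h : Φ (Algebra.discr A b • z) ∈ LinearMap.range T.mulVecLin := by
      refine ⟨T.adjugate *ᵥ Φ z, ?_⟩
      rw [Matrix.mulVecLin_apply, Matrix.mulVec_mulVec, Matrix.mul_adjugate, Matrix.smul_mulVec,
        Matrix.one_mulVec, map_smul, Algebra.discr_def]
    rw [← hrange] at h
    obtain ⟨w, hw, hw'⟩ := h
    exact hinj hw' ▸ hw
  have hI0 : I ≠ 0 := FractionalIdeal.dual_ne_zero A K one_ne_zero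
  have hD : ((differentIdeal A B : Ideal B) : FractionalIdeal B⁰ L) = I⁻¹ := coeIdeal_differentIdeal A K L B
  refine ⟨?_, ?_⟩
  · have hmem : algebraMap B L (algebraMap A B (Algebra.discr A b)) ∈ I⁻¹ := by
      refine (FractionalIdeal.mem_inv_iff hI0).2 fun y hy => ?_
      obtain ⟨x, hx⟩ := hkill ⟨y, hy⟩
      refine (FractionalIdeal.mem_one_iff _).2 ⟨x, ?_⟩
      have hx' : algebraMap B L x = Algebra.discr A b • y := congrArg Subtype.val hx
      rw [hx', Algebra.smul_def, ← IsScalarTower.algebraMap_apply]
    rw [← hD, FractionalIdeal.mem_coeIdeal] at hmem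
    obtain ⟨x, hx, he⟩ := hmem
    exact IsFractionRing.injective B L he ▸ hx
  · let D : Ideal B := differentIdeal A B
    have H : I * (D : FractionalIdeal B⁰ L) = 1 * 1 := by rw [hD, mul_inv_cancel₀ hI0, one_mul]
    let eq := FractionalIdeal.quotientEquiv I 1 1 (D : FractionalIdeal B⁰ L) H
      (FractionalIdeal.one_le_dual_one A K (L := L) (B := B)) FractionalIdeal.coeIdeal_le_one
      (by simpa [D] using differentIdeal_ne_bot (A := A) (B := B)) hI0
    let g : B →ₗ[B] (↥((1 : FractionalIdeal B⁰ L) : Submodule B L) ⧸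
        ((D : FractionalIdeal B⁰ L) : Submodule B L).comap ((1 : FractionalIdeal B⁰ L) : Submodule B L).subtype) :=
      Submodule.mkQ _ ∘ₗ LinearMap.codRestrict ((1 : FractionalIdeal B⁰ L) : Submodule B L) (Algebra.linearMap B L)
        fun x => (FractionalIdeal.mem_one_iff _).2 ⟨x, rfl⟩
    have hg : Function.Surjective g := fun q => by
      obtain ⟨⟨z, hz⟩, rfl⟩ := Submodule.Quotient.mk_surjective _ q
      obtain ⟨x, rfl⟩ := (FractionalIdeal.mem_one_iff _).1 hz
      exact ⟨x, rfl⟩
    have hgk : LinearMap.ker g = D := by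
      ext x
      rw [LinearMap.mem_ker]
      show Submodule.Quotient.mk _ = (0 : _) ↔ _
      rw [Submodule.Quotient.mk_eq_zero, Submodule.mem_comap]
      show algebraMap B L x ∈ (D : FractionalIdeal B⁰ L) ↔ _
      rw [FractionalIdeal.mem_coeIdeal]
      exact ⟨fun ⟨y, hy, h⟩ => IsFractionRing.injective B L h ▸ hy, fun h => ⟨x, h, rfl⟩⟩
    let e1 : (B ⧸ D) ≃ₗ[B] (↥(I : Submodule B L) ⧸
        ((1 : FractionalIdeal B⁰ L) : Submodule B L).comap (I : Submodule B L).subtype) :=
      (Submodule.quotEquivOfEq _ _ hgk.symm ≪≫ₗ g.quotKerEquivOfSurjective hg) ≪≫ₗ eq.symm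
    let h : (I : Submodule B L) →ₗ[A] ((Fin n → A) ⧸ LinearMap.range T.mulVecLin) :=
      (LinearMap.range T.mulVecLin).mkQ ∘ₗ
        { toFun := fun z => Φ ⟨z.1, z.2⟩
          map_add' := fun z w => Φ.map_add ⟨z.1, z.2⟩ ⟨w.1, w.2⟩
          map_smul' := fun r z => Φ.map_smul r ⟨z.1, z.2⟩ }
    have hh : Function.Surjective h := (Submodule.mkQ_surjective _).comp fun v => by
      obtain ⟨z, hz⟩ := hsurj v
      exact ⟨⟨z.1, z.2⟩, hz⟩
    have hhk : LinearMap.ker h =
        (((1 : FractionalIdeal B⁰ L) : Submodule B L).comap (I : Submodule B L).subtype).restrictScalars A := by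
      ext z
      rw [LinearMap.mem_ker]
      show Submodule.Quotient.mk (Φ ⟨z.1, z.2⟩) = 0 ↔ (z.1 : L) ∈ (1 : FractionalIdeal B⁰ L)
      rw [Submodule.Quotient.mk_eq_zero, ← hrange, FractionalIdeal.mem_one_iff]
      constructor
      · rintro ⟨_, ⟨x, rfl⟩, hx⟩
        exact ⟨x, congrArg Subtype.val (hinj hx)⟩
      · rintro ⟨x, hx⟩
        exact ⟨_, ⟨x, rfl⟩, congrArg Φ (Subtype.ext hx)⟩
    rw [(e1.restrictScalars A).length_eq,
      (Submodule.Quotient.restrictScalarsEquiv A _).symm.length_eq,
      (Submodule.quotEquivOfEq _ _ hhk.symm ≪≫ₗ h.quotKerEquivOfSurjective hh).length_eq]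
    exact H22Alg.cokerLength_eq_ord_det T
      (mem_nonZeroDivisors_of_ne_zero fun h0 => hd (by rw [Algebra.discr_def]; exact (congrArg _ h0).trans (map_zero _)))

end Groth.Agent.H29Disc
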