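import Groth.Agent.H22Alg.DetDeg
import Groth.Agent.H25FinCov.Trace
import Groth.Agent.H11Ample.Basic
import Mathlib.RingTheory.Discriminant

/-!
# The discriminant of a finite locally free morphism as a map out of the square of its determinant

For a morphism `f : X ⟶ Y` and a basis `b` of `Γ(X, f⁻¹U)` over `Γ(Y, U)` the discriminant transforms by the square
of a determinant, hence the discriminants glue to a morphism `det (f_* O_X) ⊗ det (f_* O_X) ⟶ O_Y`.
-/

set_option autoImplicit false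
set_option linter.style.haveILetI false

universe u

open CategoryTheory CategoryTheory.Limits AlgebraicGeometry TopologicalSpace Opposite

noncomputable section

namespace Groth.Agent.H29Disc

open Groth.Agent.H11Ample Groth.Agent.H11Tilde

variable {X Y : Scheme.{u}} (f : X ⟶ Y)

/-- The direct image of the structure sheaf. -/
abbrev pushO : Y.Modules := (Coh.push f).obj (Coh.structureModule X)

/-- The determinant of the direct image. -/
abbrev detO (n : ℕ) : Y.Modules := H22Alg.ExtPowSheaf.sheaf n (pushO f)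

/-- Sections of the direct image as functions. -/
def toFn (U : Y.Opens) (s : Γ(pushO f, U)) : Γ(X, f ⁻¹ᵁ U) := s

theorem toFn_add (U : Y.Opens) (s t : Γ(pushO f, U)) : toFn f U (s + t) = toFn f U s + toFn f U t := rfl

theorem toFn_smul (U : Y.Opens) (r : Γ(Y, U)) (s : Γ(pushO f, U)) :
    toFn f U (r • s) = f.app U r * toFn f U s := rfl

theorem toFn_res {U V : Y.Opens} (h : V ≤ U) (s : Γ(pushO f, U)) :
    toFn f V ((pushO f).presheaf.map (homOfLE h).op s) =
      X.presheaf.map (homOfLE (show f ⁻¹ᵁ V ≤ f ⁻¹ᵁ U from fun _ hx => h hx)).op (toFn f U s) := rfl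

/-- The sections as an algebra over the base. -/
@[reducible] def alg (U : Y.Opens) : Algebra Γ(Y, U) Γ(X, f ⁻¹ᵁ U) := (f.app U).hom.toAlgebra

/-- The sections of the direct image are the functions, linearly. -/
def fnEquiv (U : Y.Opens) : letI := alg f U; Γ(pushO f, U) ≃ₗ[Γ(Y, U)] Γ(X, f ⁻¹ᵁ U) :=
  letI := alg f U
  { toFun := toFn f U
    invFun := fun s => s
    map_add' := toFn_add f U
    map_smul' := fun r s => toFn_smul f U r s
    left_inv := fun _ => rfl
    right_inv := fun _ => rfl }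

variable {f} {n : ℕ}

/-- A frame as a basis of the functions. -/
def fnBasis {U : Y.Opens} (b : Module.Basis (Fin n) Γ(Y, U) Γ(pushO f, U)) :
    letI := alg f U; Module.Basis (Fin n) Γ(Y, U) Γ(X, f ⁻¹ᵁ U) :=
  letI := alg f U
  b.map (fnEquiv f U)

/-- The discriminant of a frame. -/
def disc {U : Y.Opens} (b : Module.Basis (Fin n) Γ(Y, U) Γ(pushO f, U)) : Γ(Y, U) :=
  letI := alg f U
  Algebra.discr Γ(Y, U) (fnBasis b)

/-- The volume section of a frame. -/
def omega {U : Y.Opens} (b : Module.Basis (Fin n) Γ(Y, U) Γ(pushO f, U)) : Γ(detO f n, U) :=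
  H22Alg.ExtPowSheaf.η n (pushO f) U (exteriorPower.ιMulti _ n b)

theorem disc_eq_det_sq_mul {U : Y.Opens} (b c : Module.Basis (Fin n) Γ(Y, U) Γ(pushO f, U)) :
    disc b = c.det b ^ 2 * disc c := by
  classical
  letI := alg f U
  have h : (fnBasis b : Fin n → Γ(X, f ⁻¹ᵁ U)) =
      Matrix.vecMul (fnBasis c : Fin n → Γ(X, f ⁻¹ᵁ U))
        ((c.toMatrix b).map (algebraMap Γ(Y, U) Γ(X, f ⁻¹ᵁ U))) := by
    funext i
    have hi := congrArg (fnEquiv f U) (Module.Basis.sum_toMatrix_smul_self c b i)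
    rw [map_sum] at hi
    rw [Matrix.vecMul, dotProduct]
    refine (show fnBasis b i = fnEquiv f U (b i) from Module.Basis.map_apply _ _ _).trans (hi.symm.trans ?_)
    refine Finset.sum_congr rfl fun j _ => ?_
    rw [map_smul, Algebra.smul_def, Matrix.map_apply, mul_comm]
    rfl
  rw [disc, disc, h, Algebra.discr_of_matrix_vecMul, Module.Basis.det_apply]

theorem omega_eq_det_smul {U : Y.Opens} (b c : Module.Basis (Fin n) Γ(Y, U) Γ(pushO f, U)) :
    omega b = c.det b • omega c := by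
  rw [omega, omega, ← map_smul, H22Alg.DetDeg.ιMulti_eq_det_smul c b]

theorem exists_res_basis (hE : Coh.IsQCoh (pushO f)) {U : Y.Opens} (hU : IsAffineOpen U)
    (b : Module.Basis (Fin n) Γ(Y, U) Γ(pushO f, U)) (g : Γ(Y, U)) {W : Y.Opens} (hW : W = Y.basicOpen g)
    (hle : W ≤ U) :
    ∃ b' : Module.Basis (Fin n) Γ(Y, W) Γ(pushO f, W),
      (∀ i, b' i = (pushO f).presheaf.map (homOfLE hle).op (b i)) ∧
      Y.presheaf.map (homOfLE hle).op (disc b) = disc b' ∧
      (detO f n).presheaf.map (homOfLE hle).op (omega b) = omega b' := by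
  classical
  subst hW
  obtain ⟨hs, hi⟩ := H25FinCov.basis_basicOpen (pushO f) hE hU b g
  let b' : Module.Basis (Fin n) Γ(Y, Y.basicOpen g) Γ(pushO f, Y.basicOpen g) :=
    Module.Basis.mk (Fintype.linearIndependent_iff.2 fun c hc j => congrFun (hi c hc) j) hs.ge
  have hb' : ∀ i, b' i = (pushO f).presheaf.map (homOfLE hle).op (b i) := fun i => Module.Basis.mk_apply _ _ i
  refine ⟨b', hb', ?_, ?_⟩
  · letI := alg f U
    letI := alg f (Y.basicOpen g)
    let σ := (Y.presheaf.map (homOfLE hle).op).hom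
    let φ := (X.presheaf.map (homOfLE (show f ⁻¹ᵁ Y.basicOpen g ≤ f ⁻¹ᵁ U from fun _ hx => hle hx)).op).hom
    have hc : ∀ r, φ (algebraMap Γ(Y, U) Γ(X, f ⁻¹ᵁ U) r) =
        algebraMap Γ(Y, Y.basicOpen g) Γ(X, f ⁻¹ᵁ Y.basicOpen g) (σ r) := fun r =>
      (congr($(f.naturality (homOfLE hle).op) r)).symm
    have hφb : ∀ i, fnBasis b' i = φ (fnBasis b i) := fun i => by
      show fnEquiv f _ (b' i) = φ (fnEquiv f U (b i))
      rw [hb']
      rfl
    have htr : ∀ a, Algebra.trace Γ(Y, Y.basicOpen g) Γ(X, f ⁻¹ᵁ Y.basicOpen g) (φ a) =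
        σ (Algebra.trace Γ(Y, U) Γ(X, f ⁻¹ᵁ U) a) := fun a => by
      refine H25FinCov.trace_map σ φ hc (fnBasis b) ?_ ?_ a
      · rw [← funext hφb]
        exact (fnBasis b').span_eq
      · intro c hc'
        simp only [← hφb] at hc'
        exact funext (Fintype.linearIndependent_iff.1 (fnBasis b').linearIndependent c hc')
    show σ (Algebra.discr Γ(Y, U) (fnBasis b)) = Algebra.discr _ (fnBasis b')
    rw [Algebra.discr_def, Algebra.discr_def, RingHom.map_det]
    refine congrArg Matrix.det ?_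
    ext i j
    rw [RingHom.mapMatrix_apply, Matrix.map_apply, Algebra.traceMatrix_apply, Algebra.traceMatrix_apply,
      Algebra.traceForm_apply, Algebra.traceForm_apply, hφb, hφb, ← φ.map_mul, htr]
  · rw [omega, omega, H22Alg.ExtPowSheaf.η_res, H22Alg.ExtPowSheaf.res_ιMulti]
    exact congrArg (fun v => H22Alg.ExtPowSheaf.η n (pushO f) _ (exteriorPower.ιMulti _ n v))
      (funext hb').symm

theorem isGen_omega (hE : Coh.IsQCoh (pushO f)) {U : Y.Opens} (hU : IsAffineOpen U)
    (b : Module.Basis (Fin n) Γ(Y, U) Γ(pushO f, U)) : IsGen (detO f n) (omega b) := by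
  have hω : Function.Bijective fun r : Γ(Y, U) => r • omega b := by
    have h := (H22Alg.ExtPowSheaf.loc (i := n) hE ⟨U, hU⟩).symm.bijective.comp
      (H22Alg.DetDeg.bijective_smul_ιMulti b)
    refine (congrArg Function.Bijective (funext fun r => ?_)).mp h
    show H22Alg.ExtPowSheaf.η n (pushO f) U (r • _) = _
    rw [map_smul]
    rfl
  let b1 : Module.Basis (Fin 1) Γ(Y, U) Γ(detO f n, U) :=
    (Module.Basis.singleton (Fin 1) Γ(Y, U)).map
      (LinearEquiv.ofBijective (LinearMap.toSpanSingleton Γ(Y, U) _ (omega b)) hω)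
  have hb1 : b1 0 = omega b := by simp [b1]
  intro y hy
  obtain ⟨by1, hby⟩ := H22Alg.DetDeg.exists_stalkBasis (H22Alg.ExtPowHom.isQCoh_sheaf hE) hU b1 hy
  refine (congrArg Function.Bijective (funext fun r => ?_)).mp
    (by1.equivFun.symm.bijective.comp
      (LinearEquiv.funUnique (Fin 1) (Y.presheaf.stalk y) (Y.presheaf.stalk y)).symm.bijective)
  show by1.equivFun.symm (fun _ => r) = _
  rw [Module.Basis.equivFun_symm_apply, Fin.sum_univ_one, hby, hb1]

/-- An affine open with a frame. -/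
structure Frame (f : X ⟶ Y) (n : ℕ) where
  U : Y.Opens
  hU : IsAffineOpen U
  b : Module.Basis (Fin n) Γ(Y, U) Γ(pushO f, U)

theorem exists_frame (hE : FlatMod.IsFinLocFreeOfRank n (pushO f)) (y : Y) :
    ∃ c : Frame f n, y ∈ c.U := by
  obtain ⟨V, hyV, ⟨e⟩⟩ := hE y
  obtain ⟨U, hU, hyU, hUV⟩ := exists_isAffineOpen_mem_and_subset (x := y) (U := V) hyV
  obtain ⟨b⟩ := H8Props.FinLocFree.exists_basis_of_chart (pushO f) e hUV
  exact ⟨⟨U, hU, b⟩, hyU⟩

/-- The discriminant as a morphism. -/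
theorem exists_discHom (hE : FlatMod.IsFinLocFreeOfRank n (pushO f)) :
    ∃ δ : CohB1.tensorMod (detO f n) (detO f n) ⟶ Coh.structureModule Y,
      ∀ c : Frame f n, δ.app c.U (tm (omega c.b) (omega c.b)) = disc c.b := by
  have hEq : Coh.IsQCoh (pushO f) :=
    H8Props.FinLocFree.isQCoh_of_isFinLocFree _ (fun y => let ⟨U, hU⟩ := hE y; ⟨U, n, hU⟩)
  refine exists_hom_of_gen (M := CohB1.tensorMod (detO f n) (detO f n)) (N := Coh.structureModule Y)
    (J := Frame f n) (fun c => c.U) (fun y => exists_frame hE y) (fun c => tm (omega c.b) (omega c.b))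
    (fun c => isGen_tm (isGen_omega hEq c.hU c.b) (isGen_omega hEq c.hU c.b)) (fun c => disc c.b)
    fun i j u h => ?_
  refine H25FinCov.ext_locally (Coh.structureModule Y) fun x hx => ?_
  obtain ⟨g, g', hgg, hxg⟩ := exists_basicOpen_le_affine_inter i.hU j.hU x hx
  have hW : Y.basicOpen g ≤ i.U ⊓ j.U :=
    le_inf (Y.basicOpen_le g) (hgg.le.trans (Y.basicOpen_le g'))
  obtain ⟨bi, -, hdi, hoi⟩ := exists_res_basis hEq i.hU i.b g rfl (Y.basicOpen_le g)
  obtain ⟨bj, -, hdj, hoj⟩ := exists_res_basis hEq j.hU j.b g' hgg (hgg.le.trans (Y.basicOpen_le g'))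
  refine ⟨Y.basicOpen g, hW, hxg, ?_⟩
  set u' := Y.presheaf.map (homOfLE hW).op u
  have h' := congrArg ((CohB1.tensorMod (detO f n) (detO f n)).presheaf.map (homOfLE hW).op) h
  rw [Scheme.Modules.map_smul, H10Coh.mres_mres, H10Coh.mres_mres, tm_res, tm_res, hoi, hoj,
    omega_eq_det_smul bi bj, tm_smul_left, tm_smul_right, smul_smul, ← pow_two] at h'
  have hu : bj.det bi ^ 2 = u' := by
    have hgen := (isGen_tm (isGen_omega hEq (i.hU.basicOpen g) bj) (isGen_omega hEq (i.hU.basicOpen g) bj)).bijective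
      (le_refl (Y.basicOpen g))
    refine hgen.1 ?_
    show _ • (CohB1.tensorMod _ _).presheaf.map _ _ = _ • (CohB1.tensorMod _ _).presheaf.map _ _
    rw [H10Coh.mres_self]
    exact h'
  rw [Scheme.Modules.map_smul, H10Coh.mres_mres, H10Coh.mres_mres]
  show Y.presheaf.map _ (disc i.b) = u' * Y.presheaf.map _ (disc j.b)
  rw [hdi, hdj, disc_eq_det_sq_mul bi bj, hu]
  rfl

end Groth.Agent.H29Disc
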